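import Cfsg.Agent.Lib.Schur.Trivial

/-!
Central extensions: canonical lifts of subgroups normalised by an abelian subgroup `T`, generated by
the commutators with the preimage of `T`.
-/

set_option autoImplicit false

namespace CfsgLib.ReeF4Schur

open Subgroup
open scoped commutatorElement

variable {Γ G : Type*} [Group Γ] [Group G] (σ : Γ →* G) (T : Subgroup G)

/-- the canonical lift of a subgroup -/
def lift (X : Subgroup G) : Subgroup Γ :=
  closure {g | ∃ a b, σ a ∈ T ∧ σ b ∈ X ∧ ⁅a, b⁆ = g}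

/-- the canonical lift meets the kernel trivially -/
def Good (X : Subgroup G) : Prop := ∀ w ∈ lift σ T X, σ w = 1 → w = 1

/-- `t` normalises `X` -/
def Norms (X : Subgroup G) : Prop := ∀ t ∈ T, ∀ x ∈ X, t * x * t⁻¹ ∈ X

/-- `t` fixes only the identity of `X` -/
def Fpf {G : Type*} [Group G] (t : G) (X : Subgroup G) : Prop :=
  ∀ x ∈ X, t * x * t⁻¹ = x → x = 1

variable {σ T}

theorem comm_mem_lift {X : Subgroup G} {a b : Γ} (ha : σ a ∈ T) (hb : σ b ∈ X) :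
    ⁅a, b⁆ ∈ lift σ T X := subset_closure ⟨a, b, ha, hb, rfl⟩

theorem lift_mono {X Y : Subgroup G} (h : X ≤ Y) : lift σ T X ≤ lift σ T Y :=
  closure_mono fun _ ⟨a, b, ha, hb, e⟩ => ⟨a, b, ha, h hb, e⟩

theorem sigma_mem {X : Subgroup G} (hX : Norms T X) {w : Γ} (hw : w ∈ lift σ T X) : σ w ∈ X := by
  have hle : lift σ T X ≤ X.comap σ := (closure_le _).2 fun g ⟨a, b, ha, hb, e⟩ => by
    subst e
    show σ ⁅a, b⁆ ∈ X
    rw [map_commutatorElement, commutatorElement_def]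
    exact mul_mem (hX _ ha _ hb) (inv_mem hb)
  exact hle hw

theorem exists_comm_eq [Finite G] {X : Subgroup G} {t : G} (hX : ∀ x ∈ X, t * x * t⁻¹ ∈ X)
    (hf : Fpf t X) {y : G} (hy : y ∈ X) : ∃ x ∈ X, ⁅t, x⁆ = y := by
  let f : X → X := fun x => ⟨⁅t, (x : G)⁆, by
    rw [commutatorElement_def]; exact mul_mem (hX _ x.2) (inv_mem x.2)⟩
  have hinj : Function.Injective f := fun a b e => by
    have e' : t * a * t⁻¹ * (a : G)⁻¹ = t * b * t⁻¹ * (b : G)⁻¹ := congrArg Subtype.val e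
    have h : t * ((b : G)⁻¹ * a) * t⁻¹ = (b : G)⁻¹ * a := by
      calc t * ((b : G)⁻¹ * a) * t⁻¹
          = (t * b * t⁻¹)⁻¹ * (t * a * t⁻¹ * (a : G)⁻¹) * a := by group
        _ = _ := by rw [e']; group
    exact Subtype.ext (inv_mul_eq_one.1 (hf _ (mul_mem (inv_mem b.2) a.2) h)).symm
  obtain ⟨x, hx⟩ := Finite.injective_iff_surjective.1 hinj ⟨y, hy⟩
  exact ⟨x, x.2, congrArg Subtype.val hx⟩

theorem exists_lift [Finite G] (hs : Function.Surjective σ) {X : Subgroup G} {t : G} (ht : t ∈ T)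
    (hX : Norms T X) (hf : Fpf t X) {y : G} (hy : y ∈ X) : ∃ w ∈ lift σ T X, σ w = y := by
  obtain ⟨x, hx, rfl⟩ := exists_comm_eq (hX t ht) hf hy
  obtain ⟨a, rfl⟩ := hs t
  obtain ⟨b, rfl⟩ := hs x
  exact ⟨_, comm_mem_lift ht hx, map_commutatorElement σ a b⟩

theorem conj_lift {X Y : Subgroup G} {g : Γ} (hT : ∀ t ∈ T, σ g * t * (σ g)⁻¹ ∈ T)
    (hXY : ∀ x ∈ X, σ g * x * (σ g)⁻¹ ∈ Y) {w : Γ} (hw : w ∈ lift σ T X) :
    g * w * g⁻¹ ∈ lift σ T Y := by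
  have hle : lift σ T X ≤ (lift σ T Y).comap (MulAut.conj g).toMonoidHom :=
    (closure_le _).2 fun z ⟨a, b, ha, hb, e⟩ => by
      subst e
      show g * ⁅a, b⁆ * g⁻¹ ∈ lift σ T Y
      rw [conjugate_commutatorElement]
      exact comm_mem_lift (by simpa using hT _ ha) (by simpa using hXY _ hb)
  exact hle hw

theorem conj_lift_T {X : Subgroup G} (hX : Norms T X) {g : Γ} (hg : σ g ∈ T) {w : Γ}
    (hw : w ∈ lift σ T X) : g * w * g⁻¹ ∈ lift σ T X :=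
  conj_lift (fun _ ht => mul_mem (mul_mem hg ht) (inv_mem hg)) (hX _ hg) hw

theorem lift_le {X : Subgroup G} {R : Subgroup Γ} (hc : σ.ker ≤ center Γ)
    (hR : ∀ a, σ a ∈ T → ∀ r ∈ R, a * r * a⁻¹ ∈ R) (hXR : X ≤ R.map σ) : lift σ T X ≤ R :=
  (closure_le _).2 fun g ⟨a, b, ha, hb, e⟩ => by
    subst e
    obtain ⟨r, hr, he⟩ := hXR hb
    show ⁅a, b⁆ ∈ R
    rw [SchurTrivial.comm_congr hc (A' := a) (B' := r) rfl he.symm, commutatorElement_def]
    exact mul_mem (hR a ha r hr) (inv_mem hr)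

theorem good_of_compl {X : Subgroup G} {R : Subgroup Γ} (hc : σ.ker ≤ center Γ)
    (hR : ∀ a, σ a ∈ T → ∀ r ∈ R, a * r * a⁻¹ ∈ R) (hXR : X ≤ R.map σ)
    (hRk : ∀ r ∈ R, σ r = 1 → r = 1) : Good σ T X :=
  fun w hw h => hRk w (lift_le hc hR hXR hw) h

theorem good_bot (hc : σ.ker ≤ center Γ) : Good σ T ⊥ :=
  good_of_compl (R := ⊥) hc (fun a _ r hr => by simp [(mem_bot).1 hr]) (by simp) fun r hr _ => mem_bot.1 hr

theorem Good.eq {X : Subgroup G} (h : Good σ T X) {u v : Γ} (hu : u ∈ lift σ T X)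
    (hv : v ∈ lift σ T X) (e : σ u = σ v) : u = v :=
  mul_inv_eq_one.1 (h _ (mul_mem hu (inv_mem hv)) (by rw [map_mul, map_inv, e, mul_inv_cancel]))

theorem Good.mono {X Y : Subgroup G} (h : Good σ T Y) (hXY : X ≤ Y) : Good σ T X :=
  fun w hw => h w (lift_mono hXY hw)

theorem good_conj {X Y : Subgroup G} (hX : Good σ T X) {g : Γ}
    (hT : ∀ t ∈ T, σ g * t * (σ g)⁻¹ ∈ T) (hXY : ∀ y ∈ Y, σ g * y * (σ g)⁻¹ ∈ X) :
    Good σ T Y := fun w hw h => by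
  have := hX _ (conj_lift hT hXY hw) (by simp [h])
  exact conj_eq_one_iff.1 this

theorem Good.fix {X : Subgroup G} (h : Good σ T X) (hX : Norms T X) {a : Γ} (ha : σ a ∈ T)
    (hcomm : ∀ x ∈ X, σ a * x = x * σ a) {w : Γ} (hw : w ∈ lift σ T X) : a * w * a⁻¹ = w :=
  h.eq (conj_lift_T hX ha hw) hw (by
    rw [map_mul, map_mul, map_inv, hcomm _ (sigma_mem hX hw), mul_inv_cancel_right])

variable [Finite G] (hs : Function.Surjective σ) (hc : σ.ker ≤ center Γ)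
include hs hc

/-- lifts of commuting subgroups commute -/
theorem commute_lift {X Y : Subgroup G} {t : G} (ht : t ∈ T) (hGX : Good σ T X) (hX : Norms T X)
    (hY : Norms T Y) (htX : ∀ x ∈ X, t * x = x * t) (hf : Fpf t Y)
    (hXY : ∀ x ∈ X, ∀ y ∈ Y, x * y = y * x) {r b : Γ} (hr : r ∈ lift σ T X) (hb : σ b ∈ Y) :
    r * b = b * r := by
  obtain ⟨x, hx, he⟩ := exists_comm_eq (hY t ht) hf hb
  obtain ⟨a, rfl⟩ := hs t
  obtain ⟨y, rfl⟩ := hs x
  have hz : ⁅a, y⁆⁻¹ * b ∈ center Γ := hc (by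
    rw [MonoidHom.mem_ker, map_mul, map_inv, map_commutatorElement, he, inv_mul_cancel])
  have hra : r * a * r⁻¹ = a := by
    have h := hGX.fix hX ht htX hr
    calc r * a * r⁻¹ = a * r * a⁻¹ * a * r⁻¹ := by rw [h]
      _ = a := by group
  have h1 : r * ⁅a, y⁆ * r⁻¹ = ⁅a, y⁆ := by
    rw [conjugate_commutatorElement, hra]
    refine SchurTrivial.comm_congr hc rfl ?_
    rw [map_mul, map_mul, map_inv, hXY _ (sigma_mem hX hr) _ hx, mul_inv_cancel_right]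
  calc r * b = r * ⁅a, y⁆ * r⁻¹ * (r * (⁅a, y⁆⁻¹ * b)) := by group
    _ = ⁅a, y⁆ * ((⁅a, y⁆⁻¹ * b) * r) := by rw [h1, mem_center_iff.1 hz r]
    _ = b * r := by group

/-- the lift of a subgroup normalises the lift of another -/
theorem normalise_lift {X Y Z : Subgroup G} {t : G} (ht : t ∈ T) (hGX : Good σ T X)
    (hGZ : Good σ T Z) (hX : Norms T X) (hY : Norms T Y) (hYZ : Y ≤ Z)
    (htX : ∀ x ∈ X, t * x = x * t) (hf : Fpf t Y)
    (hconj : ∀ x ∈ X, ∀ y ∈ Y, x * y * x⁻¹ ∈ Z) {r w : Γ} (hr : r ∈ lift σ T X)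
    (hw : w ∈ lift σ T Y) : r * w * r⁻¹ ∈ lift σ T Z := by
  obtain ⟨x, hx, he⟩ := exists_comm_eq (hY t ht) hf (sigma_mem hY hw)
  obtain ⟨a, rfl⟩ := hs t
  obtain ⟨y, rfl⟩ := hs x
  have e : w = ⁅a, y⁆ := hGZ.eq (lift_mono hYZ hw) (comm_mem_lift ht (hYZ hx))
    (by rw [map_commutatorElement, he])
  have hra : r * a * r⁻¹ = a := by
    have h := hGX.fix hX ht htX hr
    calc r * a * r⁻¹ = a * r * a⁻¹ * a * r⁻¹ := by rw [h]
      _ = a := by group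
  rw [e, conjugate_commutatorElement, hra]
  exact comm_mem_lift ht (by simpa using hconj _ (sigma_mem hX hr) _ hx)

/-- a subgroup which is central over a good subgroup `Z` is good -/
theorem good_two {X Z : Subgroup G} {t : G} (ht : t ∈ T) (hTc : ∀ s ∈ T, s * t = t * s)
    (hX : Norms T X) (hZ : Norms T Z) (hZX : Z ≤ X) (hGZ : Good σ T Z)
    (hcent : ∀ a b, σ a ∈ X → σ b ∈ Z → a * b = b * a)
    (hder : ∀ a b, σ a ∈ X → σ b ∈ X → ⁅a, b⁆ ∈ lift σ T Z)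
    (hf : Fpf t X) (hmod : ∀ x ∈ X, ⁅t, x⁆ ∈ Z → x ∈ Z) : Good σ T X := by
  obtain ⟨a, rfl⟩ := hs t
  have hL : ∀ {l}, l ∈ lift σ T Z → σ l ∈ Z := fun hl => sigma_mem hZ hl
  have hcX : ∀ {r}, σ r ∈ X → σ ⁅a, r⁆ ∈ X := fun {r} hr => by
    rw [map_commutatorElement, commutatorElement_def]
    exact mul_mem (hX _ ht _ hr) (inv_mem hr)
  let R : Subgroup Γ :=
    { carrier := {g | ∃ r l, σ r ∈ X ∧ l ∈ lift σ T Z ∧ g = ⁅a, r⁆ * l}
      one_mem' := ⟨1, 1, by simp, one_mem _, by simp⟩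
      mul_mem' := by
        rintro _ _ ⟨r, l, hr, hl, rfl⟩ ⟨r', l', hr', hl', rfl⟩
        refine ⟨r * r', ⁅r, ⁅a, r'⁆⁆⁻¹ * (l * l'), by rw [map_mul]; exact mul_mem hr hr',
          mul_mem (inv_mem (hder _ _ hr (hcX hr'))) (mul_mem hl hl'), ?_⟩
        have e : ⁅a, r * r'⁆ = ⁅a, r⁆ * (⁅r, ⁅a, r'⁆⁆ * ⁅a, r'⁆) := by
          simp only [commutatorElement_def]; group
        have c1 : ⁅r, ⁅a, r'⁆⁆ * ⁅a, r'⁆ = ⁅a, r'⁆ * ⁅r, ⁅a, r'⁆⁆ :=
          (hcent _ _ (hcX hr') (hL (hder _ _ hr (hcX hr')))).symm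
        rw [e, c1]
        calc ⁅a, r⁆ * l * (⁅a, r'⁆ * l')
            = ⁅a, r⁆ * (l * ⁅a, r'⁆) * l' := by group
          _ = ⁅a, r⁆ * ⁅a, r'⁆ * (l * l') := by rw [← hcent _ _ (hcX hr') (hL hl)]; group
          _ = _ := by group
      inv_mem' := by
        rintro _ ⟨r, l, hr, hl, rfl⟩
        have hi : σ r⁻¹ ∈ X := by rw [map_inv]; exact inv_mem hr
        refine ⟨r⁻¹, ⁅r, ⁅a, r⁻¹⁆⁆ * l⁻¹, hi, mul_mem (hder _ _ hr (hcX hi)) (inv_mem hl), ?_⟩
        have e : ⁅a, r⁆⁻¹ = ⁅r, ⁅a, r⁻¹⁆⁆ * ⁅a, r⁻¹⁆ := by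
          simp only [commutatorElement_def]; group
        rw [_root_.mul_inv_rev, e,
          show ⁅r, ⁅a, r⁻¹⁆⁆ * ⁅a, r⁻¹⁆ = ⁅a, r⁻¹⁆ * ⁅r, ⁅a, r⁻¹⁆⁆ from
            (hcent _ _ (hcX hi) (hL (hder _ _ hr (hcX hi)))).symm,
          ← mul_assoc, show l⁻¹ * ⁅a, r⁻¹⁆ = ⁅a, r⁻¹⁆ * l⁻¹ from
            (hcent _ _ (hcX hi) (by rw [map_inv]; exact inv_mem (hL hl))).symm,
          mul_assoc]
        have : l⁻¹ * ⁅r, ⁅a, r⁻¹⁆⁆ = ⁅r, ⁅a, r⁻¹⁆⁆ * l⁻¹ :=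
          hcent _ _ (by rw [map_inv]; exact inv_mem (hZX (hL hl))) (hL (hder _ _ hr (hcX hi)))
        rw [this] }
  refine good_of_compl (R := R) hc ?_ ?_ ?_
  · rintro g hg _ ⟨r, l, hr, hl, rfl⟩
    refine ⟨g * r * g⁻¹, g * l * g⁻¹, by simpa using hX _ hg _ hr, conj_lift_T hZ hg hl, ?_⟩
    rw [show g * (⁅a, r⁆ * l) * g⁻¹ = g * ⁅a, r⁆ * g⁻¹ * (g * l * g⁻¹) by group,
      conjugate_commutatorElement]
    congr 1
    refine SchurTrivial.comm_congr hc ?_ rfl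
    rw [map_mul, map_mul, map_inv, hTc _ hg, mul_inv_cancel_right]
  · intro y hy
    obtain ⟨x, hx, rfl⟩ := exists_comm_eq (hX _ ht) hf hy
    obtain ⟨r, rfl⟩ := hs x
    exact ⟨⁅a, r⁆, ⟨r, 1, hx, one_mem _, (mul_one _).symm⟩, map_commutatorElement σ a r⟩
  · rintro _ ⟨r, l, hr, hl, rfl⟩ he
    have hrZ : σ r ∈ Z := by
      refine hmod _ hr ?_
      rw [map_mul, map_commutatorElement, mul_eq_one_iff_eq_inv] at he
      rw [he]
      exact inv_mem (hL hl)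
    exact hGZ _ (mul_mem (comm_mem_lift ht hrZ) hl) he

/-- a product of two good subgroups, one normalised by the lift of the other, is good -/
theorem good_prod {X Z Y : Subgroup G} (hGX : Good σ T X) (hGZ : Good σ T Z) (hX : Norms T X)
    (hZ : Norms T Z) (hXs : ∀ x ∈ X, ∃ w ∈ lift σ T X, σ w = x)
    (hZs : ∀ x ∈ Z, ∃ w ∈ lift σ T Z, σ w = x) (hY : ∀ y ∈ Y, ∃ x ∈ X, ∃ z ∈ Z, y = x * z)
    (hd : ∀ g ∈ X, g ∈ Z → g = 1)
    (hn : ∀ r ∈ lift σ T X, ∀ w ∈ lift σ T Z, r * w * r⁻¹ ∈ lift σ T Z) : Good σ T Y := by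
  let R : Subgroup Γ :=
    { carrier := {g | ∃ r ∈ lift σ T X, ∃ w ∈ lift σ T Z, g = r * w}
      one_mem' := ⟨1, one_mem _, 1, one_mem _, (mul_one 1).symm⟩
      mul_mem' := by
        rintro _ _ ⟨r, hr, w, hw, rfl⟩ ⟨r', hr', w', hw', rfl⟩
        refine ⟨r * r', mul_mem hr hr', r'⁻¹ * w * r'⁻¹⁻¹ * w',
          mul_mem (hn _ (inv_mem hr') _ hw) hw', by group⟩
      inv_mem' := by
        rintro _ ⟨r, hr, w, hw, rfl⟩
        exact ⟨r⁻¹, inv_mem hr, r * w⁻¹ * r⁻¹, hn _ hr _ (inv_mem hw), by group⟩ }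
  refine good_of_compl (R := R) hc ?_ ?_ ?_
  · rintro g hg _ ⟨r, hr, w, hw, rfl⟩
    exact ⟨_, conj_lift_T hX hg hr, _, conj_lift_T hZ hg hw, by group⟩
  · intro y hy
    obtain ⟨x, hx, z, hz, rfl⟩ := hY y hy
    obtain ⟨r, hr, rfl⟩ := hXs x hx
    obtain ⟨w, hw, rfl⟩ := hZs z hz
    exact ⟨r * w, ⟨r, hr, w, hw, rfl⟩, map_mul σ r w⟩
  · rintro _ ⟨r, hr, w, hw, rfl⟩ he
    rw [map_mul, mul_eq_one_iff_eq_inv] at he
    have h1 : σ r = 1 := hd _ (sigma_mem hX hr) (he ▸ inv_mem (sigma_mem hZ hw))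
    rw [hGX r hr h1, one_mul]
    refine hGZ w hw ?_
    rw [h1] at he
    exact inv_eq_one.1 he.symm

omit hs hc [Finite G]

/-- a biadditive map invariant under scaling both variables by the same scalar is trivial -/
theorem eq_one_weight_one {F M : Type*} [Field F] [Fintype F] [CharP F 2] [CommGroup M]
    (hF : 4 < Fintype.card F) (β : F → F → M) (hl : ∀ a a' c, β (a + a') c = β a c * β a' c)
    (hr : ∀ a c c', β a (c + c') = β a c * β a c')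
    (hinv : ∀ k, k ≠ 0 → ∀ a c, β (k * a) (k * c) = β a c) (a c : F) : β a c = 1 := by
  classical
  have h2 : ∀ z : F, z + z = 0 := CharTwo.add_self_eq_zero
  have h0 : ∀ a, β a 0 = 1 := fun a => by
    have := hr a 0 0
    rw [add_zero] at this
    exact left_eq_mul.1 this
  have hroots : (Polynomial.X ^ 2 + Polynomial.X + 1 : Polynomial F).roots.toFinset.card ≤ 2 :=
    (Multiset.toFinset_card_le _).trans ((Polynomial.card_roots' _).trans (by compute_degree))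
  obtain ⟨x, -, hx⟩ := Finset.exists_mem_notMem_of_card_lt_card
    (s := {0, 1} ∪ (Polynomial.X ^ 2 + Polynomial.X + 1 : Polynomial F).roots.toFinset)
    (t := Finset.univ) (by
      have := Finset.card_union_le ({0, 1} : Finset F)
        (Polynomial.X ^ 2 + Polynomial.X + 1 : Polynomial F).roots.toFinset
      have := Finset.card_le_two (a := (0 : F)) (b := 1)
      rw [Finset.card_univ]
      omega)
  simp only [Finset.mem_union, Finset.mem_insert, Finset.mem_singleton, Multiset.mem_toFinset,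
    not_or] at hx
  have hx0 := hx.1.1
  have hne : (Polynomial.X ^ 2 + Polynomial.X + 1 : Polynomial F) ≠ 0 := fun e => by
    simpa using congrArg (fun p => p.eval 0) e
  have hx' : x ^ 2 + x + 1 ≠ 0 := fun e => hx.2 (by
    rw [Polynomial.mem_roots hne, Polynomial.IsRoot.def]
    simpa using e)
  have hx1 : 1 + x ≠ 0 := fun e => hx.1.2 (by
    linear_combination e - h2 1)
  have hmove : ∀ k, k ≠ 0 → ∀ a c, β (k * a) c = β a (k⁻¹ * c) := fun k hk a c => by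
    rw [← hinv k hk a (k⁻¹ * c), mul_inv_cancel_left₀ hk]
  set d := (1 + x)⁻¹ + 1 + x⁻¹ with hd
  have hd0 : d ≠ 0 := fun e => hx' (by
    have h3 : d * ((1 + x) * x) = x + (1 + x) * x + (1 + x) := by rw [hd]; field_simp
    rw [e, zero_mul] at h3
    linear_combination (-1 : F) * h3 - h2 x)
  have key : ∀ a c, β a (d * c) = 1 := fun a c => by
    have e1 := hmove (1 + x) hx1 a c
    rw [add_mul, one_mul, hl, hmove x hx0] at e1
    have e2 : β a ((1 + x⁻¹) * c) = β a ((1 + x)⁻¹ * c) := by rw [← e1, add_mul, one_mul, hr]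
    rw [hd, add_assoc, add_mul, hr, e2, ← hr, h2, h0]
  have := key a (d⁻¹ * c)
  rwa [mul_inv_cancel_left₀ hd0] at this

end CfsgLib.ReeF4Schur
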