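import Cfsg.Agent.Lib.ReeF4Schur.Unipotent

/-!
2F4(q): the small modules of the two Levi subgroups inside the adjoint module, and the coordinates
of the torus.
-/

set_option autoImplicit false
set_option linter.unusedSectionVars false
set_option maxRecDepth 4000

namespace CfsgLib.ReeF4Schur

open Cfsg.Lie CfsgLib.Chev CfsgLib.ReeF4 CfsgLib.ReeF4Out

variable {K : Type*} [Field K] [Fintype K] {m : ℕ} {σ : MulAut ↥(chevF4.group K)}

/-- the dimension of the module -/
abbrev bdim (s : Bool) : ℕ := cond s 4 2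

/-- the roots spanning the module -/
def blk : Bool → List ℕ
  | false => [27, 34]
  | true => [33, 34, 35, 37]

/-- the basis vectors of the module -/
def iota (s : Bool) (i : Fin (bdim s)) : chevF4.Idx :=
  Sum.inr ⟨(blk s).getD i.val 0, by revert i; revert s; decide⟩

theorem iota_inj : ∀ s : Bool, Function.Injective (iota s) := by
  unfold Function.Injective; decide +kernel

/-- the roots of a Levi subgroup -/
def lroots : Bool → List ℕ
  | false => [24, 33, 23, 14]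
  | true => [25, 27, 28, 30, 22, 20, 19, 17]

theorem lroots_spec : ∀ s : Bool, ∀ r : Fin 48,
    (JRoot s r → (r : ℕ) ∈ lroots s ∧ sigs chevF4 tb (jl s) r ∈ lroots s) ∧
    ((r : ℕ) ∈ lroots s → ∀ x : chevF4.Idx, ∀ i : Fin (bdim s), (∀ j, iota s j ≠ x) →
      coeffAt (decCode chevF4 tb (field (tb.t1.get r) (cd chevF4 (iota s i)))) (cd chevF4 x) % 2 = 0 ∧
      coeffAt (decCode chevF4 tb (field (tb.t2.get r) (cd chevF4 (iota s i)))) (cd chevF4 x) % 2 = 0 ∧
      coeffAt (decCode chevF4 tb (field (tb.t3.get r) (cd chevF4 (iota s i)))) (cd chevF4 x) % 2 = 0) := by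
  unfold JRoot InvRoot iota; decide +kernel

/-- the module is invariant -/
def Pres {K : Type*} [Field K] (s : Bool) (g : GL chevF4.Idx K) : Prop :=
  ∀ x : chevF4.Idx, ∀ i : Fin (bdim s), (∀ j, iota s j ≠ x) →
    (g : Matrix chevF4.Idx chevF4.Idx K) x (iota s i) = 0

omit [Fintype K] in
theorem Pres.sum {s : Bool} {g h : GL chevF4.Idx K} (hh : Pres s h) (x : chevF4.Idx)
    (i : Fin (bdim s)) :
    ((g * h : GL chevF4.Idx K) : Matrix chevF4.Idx chevF4.Idx K) x (iota s i) =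
      ∑ j, (g : Matrix chevF4.Idx chevF4.Idx K) x (iota s j) *
        (h : Matrix chevF4.Idx chevF4.Idx K) (iota s j) (iota s i) := by
  rw [Units.val_mul, Matrix.mul_apply]
  symm
  refine Finset.sum_bij_ne_zero (fun j _ _ => iota s j) (fun j _ _ => Finset.mem_univ _)
    (fun a _ _ b _ _ e => iota_inj s e) (fun y _ hy => ?_) (fun j _ _ => rfl)
  by_cases h' : ∃ j, iota s j = y
  · obtain ⟨j, rfl⟩ := h'; exact ⟨j, Finset.mem_univ _, hy, rfl⟩
  · push Not at h'
    exact absurd (by rw [hh y i h', mul_zero]) hy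

/-- the stabiliser of the module -/
def BL (K : Type*) [Field K] (s : Bool) : Subgroup (GL chevF4.Idx K) where
  carrier := {g | Pres s g ∧ Pres s g⁻¹}
  one_mem' := by
    constructor <;> intro x i hx <;>
      simp [Matrix.one_apply_ne (Ne.symm (hx i))]
  mul_mem' := by
    rintro g h ⟨g1, g2⟩ ⟨h1, h2⟩
    constructor <;> intro x i hx
    · rw [Pres.sum h1]
      exact Finset.sum_eq_zero fun j _ => by rw [g1 x j hx, zero_mul]
    · rw [_root_.mul_inv_rev, Pres.sum g2]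
      exact Finset.sum_eq_zero fun j _ => by rw [h2 x j hx, zero_mul]
  inv_mem' := by
    rintro g ⟨g1, g2⟩
    exact ⟨g2, by rwa [inv_inv]⟩

/-- the representation on the module -/
noncomputable def rho' (K : Type*) [Field K] (s : Bool) : ↥(BL K s) →* GL (Fin (bdim s)) K :=
  MonoidHom.toHomUnits
    { toFun := fun g => ((g : GL chevF4.Idx K) : Matrix chevF4.Idx chevF4.Idx K).submatrix (iota s) (iota s)
      map_one' := Matrix.submatrix_one _ (iota_inj s)
      map_mul' := fun g h => by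
        ext i j
        rw [Matrix.submatrix_apply, Matrix.mul_apply, Subgroup.coe_mul, Pres.sum h.2.1]
        rfl }

theorem coe_rho' (s : Bool) (g : ↥(BL K s)) :
    ((rho' K s g : GL (Fin (bdim s)) K) : Matrix (Fin (bdim s)) (Fin (bdim s)) K) =
      ((g : GL chevF4.Idx K) : Matrix chevF4.Idx chevF4.Idx K).submatrix (iota s) (iota s) := rfl

theorem exp_sums :
    ((blk false).map expP).sum = (0, 0) ∧ ((blk false).map expQ).sum = (3, -4) ∧
    ((blk true).map expP).sum = (4, -4) ∧ ((blk true).map expQ).sum = (0, 0) := by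
  unfold expP expQ; decide +kernel

section
variable (hσ : IsSigma m σ)
include hσ

theorem X_mem_BL {s : Bool} {r : ℕ} (hr : r ∈ lroots s) (t : K) : X r t ∈ BL K s := by
  have hlt : r < 48 := (show ∀ s : Bool, ∀ r ∈ lroots s, r < 48 by decide) s r hr
  have h : ∀ t : K, Pres s (X r t) := fun t x i hx => by
    show (X r t : GL chevF4.Idx K).val x (iota s i) = 0
    rw [coe_elX hc K (show r < chevF4.nroots from hlt), xMat_eq hc K (show r < chevF4.nroots from hlt)]
    obtain ⟨e1, e2, e3⟩ := (lroots_spec s ⟨r, hlt⟩).2 hr x i hx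
    simp only [xTab, Matrix.add_apply, Matrix.smul_apply, Matrix.map_apply, smul_eq_mul,
      Matrix.one_apply_ne (Ne.symm (hx i)), Int.coe_castRingHom, tabMat_apply, tabK_one, tabK_two, tabK_three]
    rw [cast_even hσ e1, cast_even hσ e2, cast_even hσ e3]
    ring
  refine ⟨h t, ?_⟩
  rw [elX_inv hc K (show r < chevF4.nroots from hlt)]
  exact h _

theorem uGen_le_BL (s : Bool) : uGen chevF4 K (fun r => r ∈ lroots s) ≤ BL K s :=
  uGen_le_iff.2 fun _ _ hr t => X_mem_BL hσ hr t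

/-- the Levi subgroup of an orbit of nodes -/
noncomputable abbrev Lv (hσ : IsSigma m σ) (s : Bool) : Subgroup ↥(G1 K m) := Xs σ m s ⊔ Ys hσ s

theorem Xs_le_lroots (s : Bool) {x : ↥(G1 K m)} (hx : x ∈ Xs σ m s) :
    (x : GL chevF4.Idx K) ∈ uGen chevF4 K (fun r => r ∈ lroots s) :=
  uGen_mono (fun r hr h => ((lroots_spec s ⟨r, hr⟩).1 h).1)
    (Subgroup.mem_inf.1 (Subgroup.mem_subgroupOf.1 hx)).1

theorem Lv_le (s : Bool) : Lv hσ s ≤ (uGen chevF4 K (fun r => r ∈ lroots s)).subgroupOf (G1 K m) := by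
  refine sup_le (fun x hx => Xs_le_lroots hσ s hx) ?_
  rintro _ ⟨x, hx, rfl⟩
  exact conj_nProd_uGen (jl s) (fun r hr h => ((lroots_spec s ⟨r, hr⟩).1 h).2)
    (Subgroup.mem_inf.1 (Subgroup.mem_subgroupOf.1 hx)).1

/-- the representation of the Levi subgroup -/
noncomputable def levRep (s : Bool) : ↥(Lv hσ s) →* GL (Fin (bdim s)) K :=
  (rho' K s).comp
    { toFun := fun g => ⟨(g : ↥(G1 K m)), uGen_le_BL hσ s (Lv_le hσ s g.2)⟩
      map_one' := rfl
      map_mul' := fun _ _ => rfl }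

theorem levRep_apply (s : Bool) (g : ↥(Lv hσ s)) (i j : Fin (bdim s)) :
    (levRep hσ s g : Matrix (Fin (bdim s)) (Fin (bdim s)) K) i j =
      ((g : ↥(G1 K m)) : GL chevF4.Idx K).val (iota s i) (iota s j) := rfl

theorem det_levRep (s : Bool) (g : ↥(Lv hσ s)) :
    Matrix.GeneralLinearGroup.det (levRep hσ s g) = 1 := by
  let χ := Matrix.GeneralLinearGroup.det.comp (levRep hσ s)
  have base : ∀ x : ↥(Lv hσ s), (x : ↥(G1 K m)) ∈ Xs σ m s ∨ (x : ↥(G1 K m)) ∈ Ys hσ s →
      χ x = 1 := by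
    intro x hx
    have hpow : ∃ k : ℕ, x ^ 2 ^ k = 1 := by
      obtain ⟨PB, hPB⟩ := exists_hasBN hσ
      obtain ⟨Q, hQ⟩ := sylow_U hPB
      have hP : IsPGroup 2 ↥(Uw K m) := hQ ▸ Q.isPGroup'
      rcases hx with h | ⟨y, hy, e⟩
      · obtain ⟨k, hk⟩ := hP ⟨_, Xs_le_U hσ s h⟩
        exact ⟨k, Subtype.ext (by simpa using congrArg Subtype.val hk)⟩
      · obtain ⟨k, hk⟩ := hP ⟨_, Xs_le_U hσ s hy⟩
        refine ⟨k, Subtype.ext ?_⟩
        rw [SubmonoidClass.coe_pow, ← e, ← map_pow,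
          show y ^ 2 ^ k = 1 by simpa using congrArg Subtype.val hk, map_one]
        rfl
    obtain ⟨k, hk⟩ := hpow
    have h1 : χ x ^ 2 ^ k = 1 := by rw [← map_pow, hk, map_one]
    have h2 : ((χ x : K) - 1) ^ 2 ^ k = 0 := by
      have := CfsgLib.ReeF4.charP_two hσ.card
      rw [sub_pow_char_pow, one_pow, ← Units.val_pow_eq_pow_val, h1, Units.val_one, sub_self]
    exact Units.ext (sub_eq_zero.1 ((pow_eq_zero_iff (pow_ne_zero _ two_ne_zero)).1 h2))
  have htop : (⊤ : Subgroup ↥(Lv hσ s)) ≤ χ.ker := by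
    rw [← (Subgroup.map_le_map_iff_of_injective (Lv hσ s).subtype_injective), ← MonoidHom.range_eq_map,
      Subgroup.range_subtype]
    exact sup_le (fun y hy => ⟨⟨y, Subgroup.mem_sup_left hy⟩, base _ (Or.inl hy), rfl⟩)
      (fun y hy => ⟨⟨y, Subgroup.mem_sup_right hy⟩, base _ (Or.inr hy), rfl⟩)
  exact htop (Subgroup.mem_top g)

theorem exists_diag {h : ↥(G1 K m)} (hh' : h ∈ Hw K m) : ∃ P Q : Kˣ, h = diag hσ P Q := by
  obtain ⟨c, e⟩ := (mem_diagonal hc).1 (Subgroup.mem_subgroupOf.1 hh')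
  have hfix : tauF K m c = c := (hh_fixed_iff hσ c).1 (by
    show torus chevF4 tb K (hPar chevF4 K c) ∈ fixF σ
    rw [e]; exact G1_le_fix hσ h.2)
  refine ⟨c ⟨0, by decide⟩, c ⟨1, by decide⟩, Subtype.ext ?_⟩
  rw [← e]
  refine congrArg (hh K) (funext fun j => ?_)
  obtain ⟨j, hj⟩ := j
  have hj' : j < 4 := hj
  have h' := congrFun hfix ⟨j, hj⟩
  obtain ⟨h1, h2⟩ := rev_facts ⟨j, hj⟩
  change c (Fin.rev ⟨j, hj⟩) ^ _ = _ at h'
  rw [h2, show Fin.rev (⟨j, hj⟩ : Fin chevF4.rank) = ⟨3 - j, show 3 - j < 4 by omega⟩ from Fin.ext h1] at h'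
  interval_cases j <;> simp [par] at h' ⊢ <;> exact h'.symm

theorem diag_coe (P Q : Kˣ) : ((diag hσ P Q : ↥(G1 K m)) : GL chevF4.Idx K).val =
    Matrix.diagonal fun x => (chi (hPar chevF4 K (par (m := m) P Q)) (wI chevF4 tb x) : K) :=
  coe_torus _

theorem diag_entry (P Q : Kˣ) {r : ℕ} (hr : r < chevF4.nroots) :
    ((diag hσ P Q : ↥(G1 K m)) : GL chevF4.Idx K).val (Sum.inr ⟨r, hr⟩) (Sum.inr ⟨r, hr⟩) =
      (wt (m := m) P Q r : K) := by
  rw [diag_coe, Matrix.diagonal_apply_eq]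
  refine mul_right_cancel₀ (one_ne_zero (α := K)) ?_
  have h1 := torus_conj_elX hc (F := K) (hPar chevF4 K (par (m := m) P Q)) hr 1
  have h2 := diag_X hσ P Q (show r < 48 from hr) 1
  change torus chevF4 tb K (hPar chevF4 K (par (m := m) P Q)) * X r 1 *
    (torus chevF4 tb K (hPar chevF4 K (par (m := m) P Q)))⁻¹ = _ at h2
  rw [h1] at h2
  have key : ∀ {a b : K}, X r a = X r b → a = b := fun {a b} e => by
    have h0 : X r (a + b) = (1 : GL chevF4.Idx K) := by
      rw [← X_add hσ (show r < 48 from hr), e, X_self hσ (show r < 48 from hr)]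
    have := (elX_eq_one_iff hc hr _).1 h0
    linear_combination this - b * hσ.char2
  exact key h2

theorem ep_prod (P : Kˣ) (E F : ℤ × ℤ) : ep m P E * ep m P F = ep m P (E + F) := by
  simp only [ep, ← zpow_add, Prod.fst_add, Prod.snd_add]
  congr 1
  ring

theorem det_diag {s : Bool} {P Q : Kˣ} (h : diag hσ P Q ∈ Lv hσ s) :
    ep m P ((blk s).map expP).sum * ep m Q ((blk s).map expQ).sum = 1 := by
  have hd := congrArg Units.val (det_levRep hσ s ⟨_, h⟩)
  rw [Matrix.GeneralLinearGroup.val_det_apply] at hd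
  have hm : ((levRep hσ s ⟨_, h⟩ : GL _ K) : Matrix (Fin (bdim s)) (Fin (bdim s)) K) =
      Matrix.diagonal fun i => (wt (m := m) P Q ((blk s).getD i.val 0) : K) := by
    ext i j
    rw [levRep_apply]
    rcases eq_or_ne i j with rfl | hij
    · rw [Matrix.diagonal_apply_eq]; exact diag_entry hσ P Q _
    · rw [Matrix.diagonal_apply_ne _ hij, diag_coe,
        Matrix.diagonal_apply_ne _ fun e => hij (iota_inj s e)]
  rw [hm, Matrix.det_diagonal, Units.val_one] at hd
  apply Units.ext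
  rw [Units.val_one, ← hd]
  have e0 : ∀ x : Kˣ, ep m x (0 : ℤ × ℤ) = 1 := fun x => by simp [ep]
  cases s
  · simp only [blk, wt, List.map_cons, List.map_nil, List.sum_cons, List.sum_nil, ← ep_prod hσ, e0]
    simp [Fin.prod_univ_succ]
    ring
  · simp only [blk, wt, List.map_cons, List.map_nil, List.sum_cons, List.sum_nil, ← ep_prod hσ, e0]
    simp [Fin.prod_univ_succ]
    ring

theorem ep_two {P Q : Kˣ} {E1 F1 E2 F2 : ℤ × ℤ} (h1 : ep m P E1 * ep m Q F1 = 1)
    (h2 : ep m P E2 * ep m Q F2 = 1)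
    (hn : 2 * (pm E1 F2 - pm E2 F1).1 ^ 2 - (pm E1 F2 - pm E2 F1).2 ^ 2 ∈ norms) : P = 1 ∧ Q = 1 := by
  have hmap : ∀ (x : Kˣ) (E F : ℤ × ℤ), ep m (ep m x E) F ^ (2 : ℤ) = ep m x (pm E F) := ep_pm hσ
  have hmul : ∀ (x y : Kˣ) (E : ℤ × ℤ), ep m (x * y) E = ep m x E * ep m y E := fun x y E => mul_zpow _ _ _
  have hsub : ∀ (x : Kˣ) (E F : ℤ × ℤ), ep m x (E - F) = ep m x E * (ep m x F)⁻¹ := fun x E F => by
    rw [eq_mul_inv_iff_mul_eq, ep_prod hσ, sub_add_cancel]
  have hcm : ∀ E F : ℤ × ℤ, pm E F = pm F E := fun E F => by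
    simp only [pm, Prod.mk.injEq]; constructor <;> ring
  have a1 := congrArg (fun z => ep m z F2 ^ (2 : ℤ)) h1
  have a2 := congrArg (fun z => ep m z F1 ^ (2 : ℤ)) h2
  have b1 := congrArg (fun z => ep m z E2 ^ (2 : ℤ)) h1
  have b2 := congrArg (fun z => ep m z E1 ^ (2 : ℤ)) h2
  simp only [hmul, mul_zpow, hmap] at a1 a2 b1 b2
  rw [show ep m (1 : Kˣ) F2 = 1 from one_zpow _, one_zpow] at a1
  rw [show ep m (1 : Kˣ) F1 = 1 from one_zpow _, one_zpow] at a2
  rw [show ep m (1 : Kˣ) E2 = 1 from one_zpow _, one_zpow] at b1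
  rw [show ep m (1 : Kˣ) E1 = 1 from one_zpow _, one_zpow] at b2
  constructor
  · refine ep_eq_one hσ hn ?_
    rw [hsub, mul_inv_eq_one, eq_inv_of_mul_eq_one_left a1, eq_inv_of_mul_eq_one_left a2, hcm F1 F2]
  · refine ep_eq_one hσ hn ?_
    rw [hsub, mul_inv_eq_one, hcm E1 F2, hcm E2 F1, eq_inv_of_mul_eq_one_right b1,
      eq_inv_of_mul_eq_one_right b2, hcm E1 E2]

end

end CfsgLib.ReeF4Schur
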