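import Cfsg.Agent.Lib.ReeF4Out.Nodes
import Cfsg.Agent.Lib.Twisted.F4N
import Cfsg.Agent.Lib.ReeF4Schur.Lift

/-!
2F4(q): the eight positive classes of root groups, their tails, and torus elements centralising one
class and fixed-point-free on all others.
-/

set_option autoImplicit false
set_option linter.unusedSectionVars false
set_option maxRecDepth 4000

namespace CfsgLib.ReeF4Schur

open Cfsg.Lie CfsgLib.Chev CfsgLib.ReeF4 CfsgLib.ReeF4Out
open scoped Pointwise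

variable {K : Type*} [Field K] [Fintype K] {m : ℕ} {σ : MulAut ↥(chevF4.group K)}

/-- the roots of the classes -/
def cl : ℕ → List ℕ
  | 0 => [24, 33]
  | 1 => [26, 34, 36, 42]
  | 2 => [38, 43]
  | 3 => [29, 41, 44, 47]
  | 4 => [39, 45]
  | 5 => [31, 35, 40, 46]
  | 6 => [32, 37]
  | 7 => [25, 27, 28, 30]
  | _ => []

/-- one root of each class -/
def rep : ℕ → ℕ
  | 0 => 24
  | 1 => 26
  | 2 => 43
  | 3 => 41
  | 4 => 45
  | 5 => 31
  | 6 => 32
  | _ => 25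

theorem cl_spec : ∀ k : Fin 8, ∀ r : Fin 48, SRoot false k r ↔ (r : ℕ) ∈ cl k := by
  unfold SRoot; decide +kernel

/-- exponents at the first parameter -/
def expP (r : ℕ) : ℤ × ℤ := (chevF4.cartan 0 r, 2 * chevF4.cartan 3 r)

/-- exponents at the second parameter -/
def expQ (r : ℕ) : ℤ × ℤ := (chevF4.cartan 1 r, 2 * chevF4.cartan 2 r)

/-- twice the product of two exponents -/
def pm (E F : ℤ × ℤ) : ℤ × ℤ := (2 * E.1 * F.1 + E.2 * F.2, 2 * E.1 * F.2 + 2 * E.2 * F.1)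

/-- twice the exponent of a torus element centralising the class of `i` on the root `r` -/
def det (i r : ℕ) : ℤ × ℤ := pm (expP r) (expQ i) - pm (expQ r) (expP i)

/-- the norms that are a power of two up to sign -/
def norms : List ℤ := [8, -8, 16, -16, 32, -32, 64, -64, 128, -128, 256, -256]

theorem det_facts : ∀ i : Fin 8, ∀ j : Fin 8, ∀ r ∈ cl j,
    (i = j → det (rep i) r = (0, 0) ∧ det (rep i) (chevF4.neg r) = (0, 0)) ∧
    (i ≠ j → 2 * (det (rep i) r).1 ^ 2 - (det (rep i) r).2 ^ 2 ∈ norms ∧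
      2 * (det (rep i) (chevF4.neg r)).1 ^ 2 - (det (rep i) (chevF4.neg r)).2 ^ 2 ∈ norms) := by
  unfold det pm expP expQ norms; decide +kernel

/-- the power with exponent `A + B θ` -/
def ep (m : ℕ) (x : Kˣ) (E : ℤ × ℤ) : Kˣ := x ^ (E.1 + E.2 * 2 ^ m)

section
variable (hσ : IsSigma m σ)
include hσ

theorem theta_sq (x : Kˣ) (n : ℤ) : x ^ (n * (2 * 2 ^ m * 2 ^ m - 1)) = 1 := by
  have h : x ^ (2 * 2 ^ m * 2 ^ m) = x := Units.ext (by
    rw [Units.val_pow_eq_pow_val, pow_cycle hσ])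
  rw [mul_comm, zpow_mul, zpow_sub_one]
  rw [show ((2 : ℤ) * 2 ^ m * 2 ^ m) = ((2 * 2 ^ m * 2 ^ m : ℕ) : ℤ) by push_cast; ring, zpow_natCast, h,
    mul_inv_cancel, one_zpow]

theorem sq_inj {x : Kˣ} (h : x ^ (2 : ℤ) = 1) : x = 1 := Units.ext (by
  have h' : (x : K) ^ 2 = 1 := by
    have := congrArg Units.val h
    simpa [zpow_ofNat] using this
  have : ((x : K) - 1) ^ 2 = 0 := by linear_combination h' + (1 - (x : K)) * hσ.char2
  exact sub_eq_zero.1 ((pow_eq_zero_iff two_ne_zero).1 this))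

theorem ep_pm (x : Kˣ) (E F : ℤ × ℤ) : ep m (ep m x E) F ^ (2 : ℤ) = ep m x (pm E F) := by
  simp only [ep, pm, ← zpow_mul]
  rw [show (E.1 + E.2 * 2 ^ m) * (F.1 + F.2 * 2 ^ m) * 2 =
    2 * E.1 * F.1 + E.2 * F.2 + (2 * E.1 * F.2 + 2 * E.2 * F.1) * 2 ^ m +
      E.2 * F.2 * (2 * 2 ^ m * 2 ^ m - 1) by ring, zpow_add, theta_sq hσ, mul_one]

theorem ep_eq_one {x : Kˣ} {E : ℤ × ℤ} (hE : 2 * E.1 ^ 2 - E.2 ^ 2 ∈ norms) (h : ep m x E = 1) :
    x = 1 := by
  obtain ⟨A, B⟩ := E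
  simp only [ep] at h
  have h4 : x ^ (2 * A ^ 2 - B ^ 2) = 1 := by
    rw [show 2 * A ^ 2 - B ^ 2 = (A + B * 2 ^ m) * (2 * A - 2 * B * 2 ^ m) +
      B ^ 2 * (2 * 2 ^ m * 2 ^ m - 1) by ring, zpow_add, theta_sq hσ, mul_one, zpow_mul, h, one_zpow]
  have key : ∀ (n : ℕ) (z : Kˣ), z ^ ((2 : ℤ) ^ n) = 1 → z = 1 := by
    intro n
    induction n with
    | zero => intro z hz; simpa using hz
    | succ n ih =>
      intro z hz
      rw [pow_succ, zpow_mul] at hz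
      exact ih z (sq_inj hσ hz)
  simp only [norms, List.mem_cons, List.not_mem_nil, or_false] at hE
  rcases hE with e | e | e | e | e | e | e | e | e | e | e | e <;> rw [e] at h4 <;>
    first
      | exact key 3 x (by simpa using h4)
      | exact key 4 x (by simpa using h4)
      | exact key 5 x (by simpa using h4)
      | exact key 6 x (by simpa using h4)
      | exact key 7 x (by simpa using h4)
      | exact key 8 x (by simpa using h4)

/-- the parameters of a fixed diagonal element -/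
def par (P Q : Kˣ) : Fin chevF4.rank → Kˣ := fun j =>
  if j.val = 0 then P else if j.val = 1 then Q
    else if j.val = 2 then Q ^ (2 * 2 ^ m) else P ^ (2 * 2 ^ m)

omit [Fintype K] hσ in
theorem rev_facts : ∀ j : Fin chevF4.rank, (Fin.rev j).val = 3 - j.val ∧
    rexp (chevF4.simple (Fin.rev j).val) = if 2 ≤ j.val then 2 else 1 := by decide +kernel

theorem par_fixed (P Q : Kˣ) : tauF K m (par (m := m) P Q) = par (m := m) P Q := by
  have hpc : ∀ u : Kˣ, u ^ (2 * 2 ^ m * 2 ^ m) = u := fun u => Units.ext (by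
    rw [Units.val_pow_eq_pow_val]; exact pow_cycle hσ (u : K))
  funext j
  show par (m := m) P Q (Fin.rev j) ^ _ = _
  obtain ⟨j, hj⟩ := j
  obtain ⟨h1, h2⟩ := rev_facts ⟨j, hj⟩
  have hj' : j < 4 := hj
  rw [h2]
  simp only [par, h1]
  interval_cases j <;> simp [← pow_mul, hpc]

/-- a fixed diagonal element -/
noncomputable def diag (P Q : Kˣ) : ↥(G1 K m) :=
  ⟨hh K (par (m := m) P Q), diag_le hσ ⟨hh_mem _, (hh_fixed_iff hσ _).2 (par_fixed hσ P Q)⟩⟩

theorem diag_mem (P Q : Kˣ) : diag hσ P Q ∈ Hw K m := hh_mem _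

/-- the scalar of a fixed diagonal element on a root -/
def wt (P Q : Kˣ) (r : ℕ) : Kˣ := ep m P (expP r) * ep m Q (expQ r)

omit [Fintype K] hσ in
theorem hh_conj (c : Fin chevF4.rank → Kˣ) {r : ℕ} (hr : r < chevF4.nroots) (x : K) :
    hh K c * X r x * (hh K c)⁻¹ = X r ((c ⟨0, by decide⟩ ^ chevF4.cartan 0 r *
      c ⟨1, by decide⟩ ^ chevF4.cartan 1 r * c ⟨2, by decide⟩ ^ chevF4.cartan 2 r *
      c ⟨3, by decide⟩ ^ chevF4.cartan 3 r : Kˣ) * x) := by
  have one : ∀ (i : Fin chevF4.rank) (t : Kˣ) (y : K), hh K (Pi.mulSingle i t) * X r y *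
      (hh K (Pi.mulSingle i t))⁻¹ = X r ((t ^ chevF4.cartan i.val r : Kˣ) * y) := fun i t y => by
    rw [hh_single, elH_eq_torus hc (simple_lt hc i.2), torus_conj_elX hc _ hr,
      chi_corChar_simple hc i hr]
  conv_lhs => rw [four_single c]
  simp only [map_mul]
  rw [show ∀ a b e f x : GL chevF4.Idx K, a * b * e * f * x * (a * b * e * f)⁻¹ =
    a * (b * (e * (f * x * f⁻¹) * e⁻¹) * b⁻¹) * a⁻¹ from fun a b e f x => by group,
    one, one, one, one]
  congr 1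
  simp only [Units.val_mul]
  ring

theorem diag_X (P Q : Kˣ) {r : ℕ} (hr : r < 48) (x : K) :
    (diag hσ P Q : GL chevF4.Idx K) * X r x * (diag hσ P Q : GL chevF4.Idx K)⁻¹ =
      X r ((wt (m := m) P Q r : K) * x) := by
  show hh K _ * X r x * (hh K _)⁻¹ = _
  rw [hh_conj _ (show r < chevF4.nroots from hr)]
  congr 3
  simp only [par, wt, ep, expP, expQ]
  simp only [if_true, if_false, one_ne_zero, show (2 : ℕ) ≠ 0 by omega, show (2 : ℕ) ≠ 1 by omega,
    show (3 : ℕ) ≠ 0 by omega, show (3 : ℕ) ≠ 1 by omega, show (3 : ℕ) ≠ 2 by omega]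
  have e : ∀ (z : Kˣ) (n : ℤ), (z ^ (2 * 2 ^ m)) ^ n = z ^ (2 * n * 2 ^ m) := fun z n => by
    rw [← zpow_natCast, ← zpow_mul]; push_cast; congr 1; ring
  rw [e, e, zpow_add, zpow_add]
  ac_rfl

/-- torus elements centralising the class `i` -/
noncomputable def tt (i : ℕ) (u : Kˣ) : ↥(G1 K m) :=
  diag hσ (ep m u (expQ (rep i))) (ep m u (expP (rep i)))⁻¹

theorem tt_mem (i : ℕ) (u : Kˣ) : tt hσ i u ∈ Hw K m := diag_mem hσ _ _

theorem tt_X (i : ℕ) (u : Kˣ) {r : ℕ} (hr : r < 48) : ∃ w : Kˣ, w ^ (2 : ℤ) = ep m u (det (rep i) r) ∧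
    ∀ x : K, (tt hσ i u : GL chevF4.Idx K) * X r x * (tt hσ i u : GL chevF4.Idx K)⁻¹ =
      X r ((w : K) * x) := by
  refine ⟨_, ?_, fun x => diag_X hσ _ _ hr x⟩
  have hinv : ∀ (x : Kˣ) (E : ℤ × ℤ), ep m x⁻¹ E = (ep m x E)⁻¹ := fun x E => inv_zpow _ _
  have hadd : ∀ (x : Kˣ) (E F : ℤ × ℤ), ep m x (E - F) = ep m x E * (ep m x F)⁻¹ := fun x E F => by
    simp only [ep, Prod.fst_sub, Prod.snd_sub, ← zpow_neg, ← zpow_add]
    congr 1
    ring
  have hcm : ∀ E F : ℤ × ℤ, pm E F = pm F E := fun E F => by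
    simp only [pm, Prod.mk.injEq]; constructor <;> ring
  rw [wt, mul_zpow, hinv, inv_zpow, ep_pm hσ, ep_pm hσ, det, hadd, hcm (expP r), hcm (expQ r)]

theorem cl_lt {j : ℕ} (hj : j < 8) {r : ℕ} (hr : r ∈ cl j) : 24 ≤ r ∧ r < 48 :=
  (show ∀ j : Fin 8, ∀ r ∈ cl j, 24 ≤ r ∧ r < 48 by decide +kernel) ⟨j, hj⟩ r hr

theorem tt_fix {i j : Fin 8} (u : Kˣ) {r : ℕ} (hr : r ∈ cl j) (hij : i = j) :
    r < 48 ∧ ∀ x : K, (tt hσ i u : GL chevF4.Idx K) * X r x * (tt hσ i u : GL chevF4.Idx K)⁻¹ = X r x := by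
  have hlt : r < 48 := (cl_lt hσ j.2 hr).2
  obtain ⟨w, hw, h⟩ := tt_X hσ i u hlt
  rw [((det_facts i j r hr).1 hij).1] at hw
  have : w = 1 := sq_inj hσ (by simpa [ep] using hw)
  exact ⟨hlt, fun x => by rw [h, this, Units.val_one, one_mul]⟩

end

end CfsgLib.ReeF4Schur
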