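import Cfsg.Agent.Lib.ReeF4Schur.Levi

/-!
2F4(q), q ≥ 8: a perfect central extension is trivial.
-/

set_option autoImplicit false
set_option linter.unusedSectionVars false
set_option maxRecDepth 4000

namespace CfsgLib.ReeF4Schur

open Cfsg.Lie CfsgLib.Chev CfsgLib.ReeF4 CfsgLib.ReeF4Out Subgroup
open scoped commutatorElement

universe u

variable {K : Type*} [Field K] [Fintype K] {m : ℕ} {σ : MulAut ↥(chevF4.group K)}

/-- an alternating product of two elements -/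
def altP {M : Type*} [Monoid M] (n : Bool → M) : Bool → ℕ → M
  | _, 0 => 1
  | s, k + 1 => n s * altP n (!s) k

/-- the word of an alternating product -/
def altL : Bool → ℕ → List (Fin chevF4.rank)
  | _, 0 => []
  | s, k + 1 => jl s ++ altL (!s) k

theorem altL_moves : ∀ s : Bool, ∀ k : Fin 9, (k : ℕ) ≠ 0 →
    ∃ r : Fin 48, sigs chevF4 tb (altL s k) r ≠ r := by decide +kernel

theorem altL_eight : altL false 8 = altW false 8 := by decide +kernel

section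
variable (hσ : IsSigma m σ)
include hσ

theorem map_altP {Γ : Type u} [Group Γ] (φ : Γ →* ↥(G1 K m)) {n : Bool → Γ}
    (hn : ∀ s, φ (n s) = ng hσ s) : ∀ (k : ℕ) (s : Bool),
    (φ (altP n s k) : GL chevF4.Idx K) = nProd chevF4 K (altL s k)
  | 0, s => by simp [altP, altL, nProd_nil]
  | k + 1, s => by
    rw [altP, altL, map_mul, Subgroup.coe_mul, nProd_append, map_altP φ hn k, hn]
    rfl

theorem altP_mem_N {Γ : Type u} [Group Γ] (φ : Γ →* ↥(G1 K m)) {n : Bool → Γ}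
    (hn : ∀ s, φ (n s) = ng hσ s) (k : ℕ) (s : Bool) : φ (altP n s k) ∈ Nw K m := by
  show (φ (altP n s k) : GL chevF4.Idx K) ∈ chevF4.monomialSubgroup K
  rw [map_altP hσ φ hn]
  exact nProd_mem_monomial hc _

theorem uGen_conj_monomial {n : ↥(G1 K m)} {d : GL chevF4.Idx K} {L : List (Fin chevF4.rank)}
    (hd : d ∈ chevF4.diagonalSubgroup K) (e : (n : GL chevF4.Idx K) = d * nProd chevF4 K L)
    {P Q : ℕ → Prop} (h : ∀ r, r < chevF4.nroots → P r → Q (sigs chevF4 tb L r))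
    {g : GL chevF4.Idx K} (hg : g ∈ uGen chevF4 K P) :
    (n : GL chevF4.Idx K) * g * (n : GL chevF4.Idx K)⁻¹ ∈ uGen chevF4 K Q := by
  rw [e, show ∀ a b x : GL chevF4.Idx K, a * b * x * (a * b)⁻¹ = a * (b * x * b⁻¹) * a⁻¹ from
    fun a b x => by group]
  exact diag_conj_mem hc _ hd (conj_nProd_uGen L h hg)

/-- a monomial element moves one of the two root groups of a node into `U` -/
theorem monomial_sides (s : Bool) {n : ↥(G1 K m)} (hn : n ∈ Nw K m) :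
    (∀ x ∈ Xs σ m s, n * x * n⁻¹ ∈ Uw K m) ∨ ∀ y ∈ Ys hσ s, n * y * n⁻¹ ∈ Uw K m := by
  obtain ⟨d, L, hd, e, hrho, -⟩ := monomial_shape hσ hn
  rcases side_cases hrho s with h | h
  · exact Or.inl fun x hx => uGen_conj_monomial hσ hd e (fun r hr hJ => h r hr hJ)
      (Subgroup.mem_inf.1 (Subgroup.mem_subgroupOf.1 hx)).1
  · refine Or.inr ?_
    rintro _ ⟨x, hx, rfl⟩
    have hm' : nJ K s * (x : GL chevF4.Idx K) * (nJ K s)⁻¹ ∈
        uGen chevF4 K (fun r => ∃ r', r' < 48 ∧ JRoot s r' ∧ r = sigs chevF4 tb (jl s) r') :=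
      conj_nProd_uGen _ (fun r hr hJ => ⟨r, hr, hJ, rfl⟩)
        (Subgroup.mem_inf.1 (Subgroup.mem_subgroupOf.1 hx)).1
    refine uGen_conj_monomial hσ hd e (Q := PosR) ?_ hm'
    rintro r hr ⟨r', hr', hJ, rfl⟩
    have h' := h _ (neg_lt hc hr) (jroot_facts s ⟨r', hr'⟩ hJ).1
    rw [sigs_neg hc L hr, neg_eq hc (sigs_lt hc L hr)] at h'
    have h48 : chevF4.nroots = 48 := rfl
    show 24 ≤ _
    omega

end

section
variable (hσ : IsSigma m σ) (hm : 1 ≤ m) {Γ : Type u} [Group Γ] [Finite Γ]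
  {φ : Γ →* ↥(G1 K m)} (hs : Function.Surjective φ) (hk : φ.ker ≤ center Γ)
include hσ hm hs hk

theorem good_Xs (s : Bool) : Good φ (Hw K m) (Xs σ m s) := by
  cases s
  exacts [good_pair hσ hm hs hk, good_quad hσ hm hs hk]

theorem exists_lift_Xs (s : Bool) {x : ↥(G1 K m)} (hx : x ∈ Xs σ m s) :
    ∃ w ∈ lift φ (Hw K m) (Xs σ m s), φ w = x := by
  obtain ⟨h, hh, hf⟩ := Lv_torus hσ hm s
  exact exists_lift hs (Subgroup.mem_inf.1 hh).2 (Xs_norm hσ s) hf hx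

theorem conj_Xs_lift (s : Bool) {g : Γ} (hg : φ g = ng hσ s) {w : Γ}
    (hw : w ∈ lift φ (Hw K m) (Xs σ m s)) : g * w * g⁻¹ ∈ lift φ (Hw K m) (Ys hσ s) :=
  conj_lift (fun t ht => by rw [hg]; exact N_conj_H hσ (ng_mem_N hσ s) ht)
    (fun x hx => by rw [hg]; exact ⟨x, hx, rfl⟩) hw

theorem conj_Ys_lift (s : Bool) {g : Γ} (hg : φ g = ng hσ s) {w : Γ}
    (hw : w ∈ lift φ (Hw K m) (Ys hσ s)) : g * w * g⁻¹ ∈ lift φ (Hw K m) (Xs σ m s) :=
  conj_lift (fun t ht => by rw [hg]; exact N_conj_H hσ (ng_mem_N hσ s) ht)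
    (fun y hy => by rw [hg]; exact ng_conj_Ys hσ s hy) hw

theorem conj_inv_Xs_lift (s : Bool) {g : Γ} (hg : φ g = ng hσ s) {w : Γ}
    (hw : w ∈ lift φ (Hw K m) (Xs σ m s)) : g⁻¹ * w * g ∈ lift φ (Hw K m) (Ys hσ s) := by
  have h := conj_lift (Y := Ys hσ s) (g := g⁻¹)
    (fun t ht => by rw [map_inv, hg, inv_inv]; exact ng_normH hσ s ht)
    (fun x hx => by rw [map_inv, hg, inv_inv]; exact ng_inv_conj_Xs hσ s hx) hw
  rwa [inv_inv] at h

/-- the lift of a Levi subgroup -/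
noncomputable abbrev Lc (φ : Γ →* ↥(G1 K m)) (hσ : IsSigma m σ) (s : Bool) : Subgroup Γ :=
  lift φ (Hw K m) (Xs σ m s) ⊔ lift φ (Hw K m) (Ys hσ s)

theorem Lc_map_le (s : Bool) {w : Γ} (hw : w ∈ Lc φ hσ s) : φ w ∈ Lv hσ s := by
  have hle : Lc φ hσ s ≤ (Lv hσ s).comap φ :=
    sup_le (fun w hw => Subgroup.mem_sup_left (sigma_mem (Xs_norm hσ s) hw))
      (fun w hw => Subgroup.mem_sup_right (sigma_mem (Ys_norm hσ s) hw))
  exact hle hw

theorem exists_lift_Lv (s : Bool) {g : ↥(G1 K m)} (hg : g ∈ Lv hσ s) : ∃ w ∈ Lc φ hσ s, φ w = g := by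
  obtain ⟨n, hn⟩ := hs (ng hσ s)
  have hle : Lv hσ s ≤ (Lc φ hσ s).map φ := by
    refine sup_le (fun x hx => ?_) ?_
    · obtain ⟨w, hw, e⟩ := exists_lift_Xs hσ hm hs hk s hx
      exact ⟨w, Subgroup.mem_sup_left hw, e⟩
    · rintro _ ⟨x, hx, rfl⟩
      obtain ⟨w, hw, e⟩ := exists_lift_Xs hσ hm hs hk s hx
      exact ⟨n * w * n⁻¹, Subgroup.mem_sup_right (conj_Xs_lift hσ hm hs hk s hn hw), by
        simp [hn, e, MulAut.conj_apply]⟩
  exact hle hg

theorem Lc_conj_torus (s : Bool) {a : Γ} (ha : φ a ∈ Hw K m) {w : Γ} (hw : w ∈ Lc φ hσ s) :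
    a * w * a⁻¹ ∈ Lc φ hσ s := by
  have hle : Lc φ hσ s ≤ (Lc φ hσ s).comap (MulAut.conj a).toMonoidHom :=
    sup_le (fun w hw => Subgroup.mem_sup_left (conj_lift_T (Xs_norm hσ s) ha hw))
      (fun w hw => Subgroup.mem_sup_right (conj_lift_T (Ys_norm hσ s) ha hw))
  exact hle hw

/-- the lift of a Levi subgroup is isomorphic to it -/
theorem Lc_inj (s : Bool) {w : Γ} (hw : w ∈ Lc φ hσ s) (h1 : φ w = 1) : w = 1 := by
  classical
  let Δ := ↥(Lc φ hσ s)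
  let τ : Δ →* ↥(Lv hσ s) :=
    (φ.comp (Lc φ hσ s).subtype).codRestrict _ fun w => Lc_map_le hσ hm hs hk s w.2
  have hτ : ∀ z : Δ, (τ z : ↥(G1 K m)) = φ z := fun _ => rfl
  have hτs : Function.Surjective τ := fun g => by
    obtain ⟨w, hw, e⟩ := exists_lift_Lv hσ hm hs hk s g.2
    exact ⟨⟨w, hw⟩, Subtype.ext e⟩
  have hker : ∀ z, z ∈ τ.ker → (z : Γ) ∈ φ.ker := fun z hz => by
    rw [MonoidHom.mem_ker, ← hτ, show τ z = 1 from hz]; rfl
  have hτc : τ.ker ≤ center Δ := fun z hz =>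
    mem_center_iff.2 fun g => Subtype.ext (mem_center_iff.1 (hk (hker z hz)) g)
  obtain ⟨n, hnL, hn⟩ := exists_lift_Lv hσ hm hs hk s (ng_mem_Lv hσ s)
  obtain ⟨h, hh, hf⟩ := Lv_torus hσ hm s
  obtain ⟨a, haL, ha⟩ := exists_lift_Lv hσ hm hs hk s (Subgroup.mem_inf.1 hh).1
  have haT : φ a ∈ Hw K m := ha ▸ (Subgroup.mem_inf.1 hh).2
  have hX : ∀ w, ∀ hw : w ∈ lift φ (Hw K m) (Xs σ m s),
      (⟨w, Subgroup.mem_sup_left hw⟩ : Δ) ∈ _root_.commutator Δ := by
    intro w hw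
    obtain ⟨x, hx, e⟩ := exists_comm_eq (fun x hx => Xs_norm hσ s _ (Subgroup.mem_inf.1 hh).2 x hx) hf
      (sigma_mem (Xs_norm hσ s) hw)
    obtain ⟨b, hb, hbx⟩ := exists_lift_Xs hσ hm hs hk s hx
    have hwe : w = ⁅a, b⁆ := (good_Xs hσ hm hs hk s).eq hw (comm_mem_lift haT (hbx ▸ hx)) (by
      rw [map_commutatorElement, ha, hbx, e])
    have : (⟨w, Subgroup.mem_sup_left hw⟩ : Δ) =
        ⁅(⟨a, haL⟩ : Δ), (⟨b, Subgroup.mem_sup_left hb⟩ : Δ)⁆ := Subtype.ext hwe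
    rw [this]
    exact commutator_mem_commutator (mem_top _) (mem_top _)
  have hperf : _root_.commutator Δ = ⊤ := by
    refine eq_top_iff.2 fun z _ => ?_
    have hle : Lc φ hσ s ≤ (_root_.commutator Δ).map (Lc φ hσ s).subtype := by
      refine sup_le (fun w hw => ⟨_, hX w hw, rfl⟩) fun w hw => ?_
      have h' := conj_Ys_lift hσ hm hs hk s hn hw
      refine ⟨⟨n, hnL⟩⁻¹ * ⟨n * w * n⁻¹, Subgroup.mem_sup_left h'⟩ * (⟨n, hnL⟩⁻¹)⁻¹,
        (commutator_normal (⊤ : Subgroup Δ) ⊤).conj_mem _ (hX _ h') _, ?_⟩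
      simp [mul_assoc]
    obtain ⟨z', hz', e⟩ := hle z.2
    rwa [Subtype.ext e] at hz'
  have hd : τ.ker ≤ _root_.commutator Δ := by rw [hperf]; exact le_top
  have hno : ∀ r : ℕ, r.Prime → ¬ r ∣ Nat.card τ.ker := by
    intro r hr
    haveI := Fact.mk hr
    by_cases hr2 : r = 2
    · subst hr2
      obtain ⟨PB, hPB⟩ := exists_hasBN hσ
      obtain ⟨QU, hQU⟩ := sylow_U hPB
      have hU : IsPGroup 2 ↥(Uw K m) := hQU ▸ QU.isPGroup'
      have hXl : IsPGroup 2 ↥((Xs σ m s).subgroupOf (Lv hσ s)) :=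
        (hU.to_le (Xs_le_U hσ s)).comap_of_injective (Lv hσ s).subtype Subtype.val_injective
      let Q : Sylow 2 ↥(Lv hσ s) := hXl.toSylow (two_not_dvd_index hσ hm s)
      obtain ⟨P, hP⟩ := SchurBound.exists_sylow_map_eq τ hτs Q
      refine SchurSylow.not_dvd_card_ker τ hτc hd P fun y hy hy1 => ?_
      have hdec : ∀ p : ↥(P : Subgroup Δ), ∃ w ∈ lift φ (Hw K m) (Xs σ m s),
          w⁻¹ * ((p : Δ) : Γ) ∈ center Γ := by
        intro p
        have hp : τ p ∈ (Q : Subgroup ↥(Lv hσ s)) := hP ▸ mem_map_of_mem τ p.2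
        have hp' : φ ((p : Δ) : Γ) ∈ Xs σ m s := hp
        obtain ⟨w, hw, e⟩ := exists_lift_Xs hσ hm hs hk s hp'
        exact ⟨w, hw, hk (by rw [MonoidHom.mem_ker, map_mul, map_inv, e, inv_mul_cancel])⟩
      have hy' : ((y : Δ) : Γ) ∈ lift φ (Hw K m) (Xs σ m s) := by
        have hle : _root_.commutator ↥(P : Subgroup Δ) ≤
            (lift φ (Hw K m) (Xs σ m s)).comap ((Lc φ hσ s).subtype.comp (P : Subgroup Δ).subtype) := by
          rw [_root_.commutator_def, Subgroup.commutator_le]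
          intro p _ q _
          obtain ⟨w, hw, hwc⟩ := hdec p
          obtain ⟨v, hv, hvc⟩ := hdec q
          show ((⁅p, q⁆ : ↥(P : Subgroup Δ)) : Δ).val ∈ lift φ (Hw K m) (Xs σ m s)
          have : ((⁅p, q⁆ : ↥(P : Subgroup Δ)) : Δ).val = ⁅((p : Δ) : Γ), ((q : Δ) : Γ)⁆ := rfl
          rw [this, show ((p : Δ) : Γ) = w * (w⁻¹ * ((p : Δ) : Γ)) by group,
            show ((q : Δ) : Γ) = v * (v⁻¹ * ((q : Δ) : Γ)) by group,
            Schur.commutatorElement_mul_center hwc hvc, commutatorElement_def]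
          exact mul_mem (mul_mem (mul_mem hw hv) (inv_mem hw)) (inv_mem hv)
        exact hle hy
      exact Subtype.ext (Subtype.ext (good_Xs hσ hm hs hk s _ hy' (hker _ hy1)))
    · let P : Sylow r Δ := default
      haveI : IsCyclic ((P : Subgroup Δ).map τ) := sylow_cyclic hσ hm s hr2 (P.mapSurjective hτs)
      exact SchurSylow.not_dvd_card_ker_of_cyclic τ hτc hd P
  have hcard : Nat.card τ.ker = 1 := by
    by_contra hne
    obtain ⟨r, hr, hdvd⟩ := Nat.exists_prime_and_dvd hne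
    exact hno r hr hdvd
  have hbot := Subgroup.card_eq_one.1 hcard
  have hmem : (⟨w, hw⟩ : Δ) ∈ τ.ker := by
    rw [MonoidHom.mem_ker]; exact Subtype.ext h1
  rw [hbot, mem_bot] at hmem
  exact congrArg Subtype.val hmem

theorem Lc_eq (s : Bool) {u v : Γ} (hu : u ∈ Lc φ hσ s) (hv : v ∈ Lc φ hσ s) (e : φ u = φ v) :
    u = v :=
  mul_inv_eq_one.1 (Lc_inj hσ hm hs hk s (mul_mem hu (inv_mem hv))
    (by rw [map_mul, map_inv, e, mul_inv_cancel]))

/-- a perfect central extension of 2F4(q) is trivial -/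
theorem ker_eq_bot (hd : φ.ker ≤ _root_.commutator Γ) : φ.ker = ⊥ := by
  classical
  have hX := fun s => good_Xs hσ hm hs hk s
  choose n hnL hn using fun s => exists_lift_Lv hσ hm hs hk s (ng_mem_Lv hσ s)
  obtain ⟨u, hu⟩ := exists_unit hσ hm
  obtain ⟨PB, hPB⟩ := exists_hasBN hσ
  set W := lift φ (Hw K m) (Uw K m) with hWdef
  have hWN : Norms (Hw K m) (Uw K m) := fun t ht x hx => ((H_conj hσ ht x).1).2 hx
  obtain ⟨hWG, -⟩ := good_unipotent hσ hm hs hk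
  have hXW : ∀ s, lift φ (Hw K m) (Xs σ m s) ≤ W := fun s => lift_mono (Xs_le_U hσ s)
  -- the tori of the Levi subgroups
  set T := fun s => Lc φ hσ s ⊓ (Hw K m).comap φ with hT
  have memT : ∀ {s w}, w ∈ Lc φ hσ s → φ w ∈ Hw K m → w ∈ T s := fun hw hw' =>
    Subgroup.mem_inf.2 ⟨hw, hw'⟩
  have Tconj : ∀ {s a w}, φ a ∈ Hw K m → w ∈ T s → a * w * a⁻¹ ∈ T s := fun {s a w} ha hw => by
    obtain ⟨h1, h2⟩ := Subgroup.mem_inf.1 hw
    refine memT (Lc_conj_torus hσ hm hs hk s ha h1) ?_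
    rw [map_mul, map_mul, map_inv]
    exact mul_mem (mul_mem ha h2) (inv_mem ha)
  let J : Subgroup Γ :=
    { carrier := {g | ∃ a ∈ T false, ∃ b ∈ T true, g = a * b}
      one_mem' := ⟨1, one_mem _, 1, one_mem _, (mul_one 1).symm⟩
      mul_mem' := by
        rintro _ _ ⟨a, ha, b, hb, rfl⟩ ⟨a', ha', b', hb', rfl⟩
        exact ⟨a * a', mul_mem ha ha', a'⁻¹ * b * a'⁻¹⁻¹ * b',
          mul_mem (Tconj (by rw [map_inv]; exact inv_mem (Subgroup.mem_inf.1 ha').2) hb) hb', by group⟩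
      inv_mem' := by
        rintro _ ⟨a, ha, b, hb, rfl⟩
        exact ⟨a⁻¹, inv_mem ha, a * b⁻¹ * a⁻¹, Tconj (Subgroup.mem_inf.1 ha).2 (inv_mem hb), by group⟩ }
  have TJ : ∀ {s w}, w ∈ T s → w ∈ J := fun {s w} hw => by
    cases s
    exacts [⟨w, hw, 1, one_mem _, (mul_one w).symm⟩, ⟨1, one_mem _, w, hw, (one_mul w).symm⟩]
  have JH : ∀ {w}, w ∈ J → φ w ∈ Hw K m := fun {w} ⟨a, ha, b, hb, e⟩ => by
    rw [e, map_mul]
    exact mul_mem (Subgroup.mem_inf.1 ha).2 (Subgroup.mem_inf.1 hb).2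
  have Jinj : ∀ {w}, w ∈ J → φ w = 1 → w = 1 := by
    rintro w ⟨a, ha, b, hb, rfl⟩ he
    obtain ⟨a1, a2⟩ := Subgroup.mem_inf.1 ha
    obtain ⟨b1, b2⟩ := Subgroup.mem_inf.1 hb
    rw [map_mul, mul_eq_one_iff_eq_inv] at he
    have h1 : φ a = 1 := Lv_inter hσ (Lc_map_le hσ hm hs hk _ a1)
      (he ▸ inv_mem (Lc_map_le hσ hm hs hk _ b1)) a2
    rw [h1] at he
    rw [Lc_inj hσ hm hs hk _ a1 h1, Lc_inj hσ hm hs hk _ b1 (inv_eq_one.1 he.symm), one_mul]
  have commT : ∀ {s g}, φ g ∈ Hw K m → n s * g * (n s)⁻¹ * g⁻¹ ∈ T s := fun {s g} hg => by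
    refine memT ?_ ?_
    · rw [show n s * g * (n s)⁻¹ * g⁻¹ = n s * (g * (n s)⁻¹ * g⁻¹) by group]
      exact mul_mem (hnL s) (Lc_conj_torus hσ hm hs hk s hg (inv_mem (hnL s)))
    · simp only [map_mul, map_inv, hn]
      exact mul_mem (N_conj_H hσ (ng_mem_N hσ s) hg) (inv_mem hg)
  have Jnorm : ∀ s, ∀ {w}, w ∈ J → n s * w * (n s)⁻¹ ∈ J := fun s {w} hw => by
    have := mul_mem (TJ (commT (s := s) (JH hw))) hw
    rwa [inv_mul_cancel_right] at this
  have nsq : ∀ s, n s * n s ∈ T s := fun s => memT (mul_mem (hnL s) (hnL s)) (by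
    rw [map_mul, hn]; exact ng_sq hσ s)
  have Jnorm' : ∀ s, ∀ {w}, w ∈ J → (n s)⁻¹ * w * n s ∈ J := fun s {w} hw => by
    have h := Jnorm s (mul_mem (mul_mem (inv_mem (TJ (nsq s))) hw) (TJ (nsq s)))
    rwa [show n s * ((n s * n s)⁻¹ * w * (n s * n s)) * (n s)⁻¹ = (n s)⁻¹ * w * n s by group] at h
  have Jalt : ∀ (k : ℕ) (s : Bool) {w}, w ∈ J → (altP n s k)⁻¹ * w * altP n s k ∈ J := by
    intro k
    induction k with
    | zero => intro s w hw; simpa [altP] using hw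
    | succ k ih =>
      intro s w hw
      have h := ih (!s) (Jnorm' s hw)
      simpa [altP, mul_assoc] using h
  -- the braid relation
  have hφv : φ (altP n false 8) = n0 hσ := Subtype.ext (by
    rw [map_altP hσ φ hn, altL_eight]; rfl)
  have hvX : ∀ w ∈ Lc φ hσ false, altP n false 8 * w * (altP n false 8)⁻¹ ∈ Lc φ hσ false := by
    have hTn : ∀ t ∈ Hw K m, φ (altP n false 8) * t * (φ (altP n false 8))⁻¹ ∈ Hw K m := fun t ht =>
      N_conj_H hσ (altP_mem_N hσ φ hn 8 false) ht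
    have hle : Lc φ hσ false ≤ (Lc φ hσ false).comap (MulAut.conj (altP n false 8)).toMonoidHom := by
      refine sup_le (fun w hw => Subgroup.mem_sup_right (conj_lift hTn (fun x hx => ?_) hw))
        (fun w hw => Subgroup.mem_sup_left (conj_lift hTn (fun y hy => ?_) hw))
      · obtain ⟨t, rfl⟩ := exists_pg hσ (Subgroup.mem_subgroupOf.1 hx)
        rw [hφv, n0_conj_pg hPB]
        exact (mem_Ys_false hPB).2 ⟨t, rfl⟩
      · obtain ⟨t, rfl⟩ := (mem_Ys_false hPB).1 hy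
        rw [hφv, n0_conj_pg hPB]
        exact pgv_pos_mem hσ t
    exact fun w hw => hle hw
  have braid : ∃ j ∈ J, altP n true 8 = j * altP n false 8 := by
    set v := altP n false 8 with hv
    have hh : v * n false * v⁻¹ * (n false)⁻¹ ∈ T false := by
      refine memT (mul_mem (hvX _ (hnL false)) (inv_mem (hnL false))) ?_
      have e : φ (v * n false * v⁻¹ * (n false)⁻¹) = n0 hσ * ng hσ false * (ng hσ false * n0 hσ)⁻¹ := by
        simp only [map_mul, map_inv, hn, hφv, _root_.mul_inv_rev, mul_assoc]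
      rw [e]
      show nProd chevF4 K (altW false 8) * nJ K false * (nJ K false * nProd chevF4 K (altW false 8))⁻¹ ∈
        chevF4.diagonalSubgroup K
      rw [nJ, ← nProd_append, ← nProd_append]
      exact nProd_div_mem hc fun r hr => sigs_eight false ⟨r, hr⟩
    have e2 : n false * altP n true 8 = v * n false := by
      simp [hv, altP, mul_assoc]
    refine ⟨(n false)⁻¹ * (v * n false * v⁻¹ * (n false)⁻¹) * n false, Jnorm' false (TJ hh), ?_⟩
    calc altP n true 8 = (n false)⁻¹ * (n false * altP n true 8) := by group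
      _ = _ := by rw [e2]; group
  -- the monomial elements
  let NS : Γ → Prop := fun g => ∃ j ∈ J, ∃ s, ∃ k ≤ 8, g = j * altP n s k
  have NS_J : ∀ {j g}, j ∈ J → NS g → NS (j * g) := fun {j g} hj ⟨j', hj', s, k, hk', e⟩ =>
    ⟨j * j', mul_mem hj hj', s, k, hk', by rw [e, mul_assoc]⟩
  have step0 : ∀ s t k, k ≤ 8 → NS (n s * altP n t k) := by
    intro s t k hk8
    rcases Nat.eq_zero_or_pos k with rfl | hk0
    · exact ⟨1, one_mem _, s, 1, by norm_num, by simp [altP]⟩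
    by_cases hst : s = t
    · subst hst
      obtain ⟨k', rfl⟩ := Nat.exists_eq_succ_of_ne_zero hk0.ne'
      exact ⟨n s * n s, TJ (nsq s), !s, k', by omega, by simp [altP, mul_assoc]⟩
    have ht : t = !s := by cases s <;> cases t <;> simp_all
    subst ht
    rcases Nat.lt_or_eq_of_le hk8 with h8 | rfl
    · exact ⟨1, one_mem _, s, k + 1, h8, by simp [altP]⟩
    obtain ⟨j, hj, hb⟩ := braid
    have hj' : ∃ j ∈ J, altP n (!s) 8 = j * altP n s 8 := by
      cases s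
      · exact ⟨j, hj, hb⟩
      · exact ⟨j⁻¹, inv_mem hj, by rw [hb, inv_mul_cancel_left]; rfl⟩
    obtain ⟨i, hi, he⟩ := hj'
    exact ⟨n s * i * (n s)⁻¹ * (n s * n s), mul_mem (Jnorm s hi) (TJ (nsq s)), !s, 7, by omega, by
      rw [he]; simp [altP, mul_assoc]⟩
  have NS_n : ∀ s {g}, NS g → NS (n s * g) := fun s {g} ⟨j, hj, t, k, hk', e⟩ => by
    rw [e, show n s * (j * altP n t k) = n s * j * (n s)⁻¹ * (n s * altP n t k) by group]
    exact NS_J (Jnorm s hj) (step0 s t k hk')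
  have NS_N : ∀ {g}, NS g → φ g ∈ Nw K m := fun {g} ⟨j, hj, t, k, _, e⟩ => by
    rw [e, map_mul]
    exact mul_mem (H_le_N hσ (JH hj)) (altP_mem_N hσ φ hn k t)
  have NS_conj : ∀ {g}, NS g → ∀ {w}, w ∈ J → g⁻¹ * w * g ∈ J := fun {g} ⟨j, hj, t, k, _, e⟩ w hw => by
    rw [e, show (j * altP n t k)⁻¹ * w * (j * altP n t k) =
      (altP n t k)⁻¹ * (j⁻¹ * w * j) * altP n t k by group]
    exact Jalt k t (mul_mem (mul_mem (inv_mem hj) hw) hj)
  have NS_H : ∀ {g}, NS g → φ g ∈ Hw K m → g ∈ J := fun {g} ⟨j, hj, t, k, hk', e⟩ hg => by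
    rcases Nat.eq_zero_or_pos k with rfl | hk0
    · rw [e, altP, mul_one]; exact hj
    exfalso
    have h1 : φ (altP n t k) ∈ Hw K m := by
      have := mul_mem (inv_mem (JH hj)) hg
      rwa [e, map_mul, inv_mul_cancel_left] at this
    obtain ⟨r, hr⟩ := altL_moves t ⟨k, by omega⟩ hk0.ne'
    refine hr ?_
    have h2 : nProd chevF4 K (altL t k) * (nProd chevF4 K ([] : List (Fin chevF4.rank)))⁻¹ ∈
        chevF4.diagonalSubgroup K := by
      rw [nProd_nil, inv_one, mul_one, ← map_altP hσ φ hn]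
      exact h1
    exact sigs_eq_of_mem hc h2 r.2
  -- the Borel subgroup
  let Bt : Subgroup Γ :=
    { carrier := {g | ∃ w ∈ W, ∃ j ∈ J, g = w * j}
      one_mem' := ⟨1, one_mem _, 1, one_mem _, (mul_one 1).symm⟩
      mul_mem' := by
        rintro _ _ ⟨w, hw, j, hj, rfl⟩ ⟨w', hw', j', hj', rfl⟩
        exact ⟨w * (j * w' * j⁻¹), mul_mem hw (conj_lift_T hWN (JH hj) hw'), j * j', mul_mem hj hj',
          by group⟩
      inv_mem' := by
        rintro _ ⟨w, hw, j, hj, rfl⟩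
        exact ⟨j⁻¹ * w⁻¹ * j⁻¹⁻¹, conj_lift_T hWN (JH (inv_mem hj)) (inv_mem hw), j⁻¹, inv_mem hj,
          by group⟩ }
  have WB : ∀ {w}, w ∈ W → w ∈ Bt := fun {w} hw => ⟨w, hw, 1, one_mem _, (mul_one w).symm⟩
  have JB : ∀ {j}, j ∈ J → j ∈ Bt := fun {j} hj => ⟨1, one_mem _, j, hj, (one_mul j).symm⟩
  let C : Γ → Prop := fun g => ∃ b ∈ Bt, ∃ x, NS x ∧ ∃ b' ∈ Bt, g = b * x * b'
  have C_B : ∀ {b g}, b ∈ Bt → C g → C (b * g) := fun {b g} hb ⟨b1, hb1, x, hx, b', hb', e⟩ =>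
    ⟨b * b1, mul_mem hb hb1, x, hx, b', hb', by rw [e]; group⟩
  have C_R : ∀ {b g}, b ∈ Bt → C g → C (g * b) := fun {b g} hb ⟨b1, hb1, x, hx, b', hb', e⟩ =>
    ⟨b1, hb1, x, hx, b' * b, mul_mem hb' hb, by rw [e]; group⟩
  have C_NS : ∀ {x}, NS x → C x := fun {x} hx =>
    ⟨1, one_mem _, x, hx, 1, one_mem _, by group⟩
  have core : ∀ s a, a ∈ lift φ (Hw K m) (Xs σ m s) → ∀ x, NS x → C (n s * a * x) := by
    intro s a ha x hx
    have hxN : φ x⁻¹ ∈ Nw K m := by rw [map_inv]; exact inv_mem (NS_N hx)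
    have hTx : ∀ t ∈ Hw K m, φ x⁻¹ * t * (φ x⁻¹)⁻¹ ∈ Hw K m := fun t ht => N_conj_H hσ hxN ht
    rcases monomial_sides hσ s hxN with hpos | hneg
    · have hw : x⁻¹ * a * x⁻¹⁻¹ ∈ W := conj_lift hTx hpos ha
      have := C_R (WB hw) (C_NS (NS_n s hx))
      rwa [show n s * x * (x⁻¹ * a * x⁻¹⁻¹) = n s * a * x by group] at this
    rcases eq_or_ne a 1 with rfl | hne
    · rw [mul_one]; exact C_NS (NS_n s hx)
    have hφa : φ a ≠ 1 := fun e => hne (hX s a ha e)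
    obtain ⟨a1, h1a, h, hh, a2, h2a, e⟩ := rank_one_Lv hσ hm s (sigma_mem (Xs_norm hσ s) ha) hφa
    obtain ⟨A1, hA1, eA1⟩ := exists_lift_Xs hσ hm hs hk s h1a
    obtain ⟨A2, hA2, eA2⟩ := exists_lift_Xs hσ hm hs hk s h2a
    obtain ⟨H', hH', eH'⟩ := exists_lift_Lv hσ hm hs hk s (Subgroup.mem_inf.1 hh).1
    have hH'T : H' ∈ T s := memT hH' (eH' ▸ (Subgroup.mem_inf.1 hh).2)
    have hy : n s * a * (n s)⁻¹ = A1 * H' * n s * A2 := by
      refine Lc_eq hσ hm hs hk s (mul_mem (mul_mem (hnL s) (Subgroup.mem_sup_left ha)) (inv_mem (hnL s)))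
        (mul_mem (mul_mem (mul_mem (Subgroup.mem_sup_left hA1) hH') (hnL s)) (Subgroup.mem_sup_left hA2)) ?_
      simp only [map_mul, map_inv, hn, eA1, eA2, eH']
      exact e
    have hw : x⁻¹ * ((n s)⁻¹ * A2 * n s) * x⁻¹⁻¹ ∈ W :=
      conj_lift hTx hneg (conj_inv_Xs_lift hσ hm hs hk s (hn s) hA2)
    refine ⟨A1 * H' * (n s * n s), mul_mem (mul_mem (WB (hXW s hA1)) (JB (TJ hH'T))) (JB (TJ (nsq s))),
      x, hx, _, WB hw, ?_⟩
    calc n s * a * x = n s * a * (n s)⁻¹ * n s * x := by group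
      _ = _ := by rw [hy]; group
  have C_n : ∀ s {g}, C g → C (n s * g) := by
    intro s g ⟨b, hb, x, hx, b', hb', e⟩
    obtain ⟨w, hw, j, hj, rfl⟩ := hb
    obtain ⟨a, ha, r, hr, e'⟩ := Uk_split hσ s (inv_mem (sigma_mem hWN hw))
    obtain ⟨R, hR, eR⟩ := exists_lift hs (tt_mem hσ (node s) u) (Uk_norm hσ s) (Uk_fpf hσ s hu)
      (inv_mem hr)
    obtain ⟨A, hA, eA⟩ := exists_lift_Xs hσ hm hs hk s (inv_mem ha)
    have hwe : w = R * A := hWG.eq hw (mul_mem (lift_mono (Uk_le hσ s) hR) (hXW s hA)) (by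
      rw [map_mul, eR, eA, ← _root_.mul_inv_rev, ← e', inv_inv])
    have hR' : n s * R * (n s)⁻¹ ∈ W := conj_lift (fun t ht => by
      rw [hn]; exact N_conj_H hσ (ng_mem_N hσ s) ht) (fun y hy => by rw [hn]; exact Uk_conj hσ s hy) hR
    have hC := C_R hb' (C_B (WB hR') (core s A hA (j * x) (NS_J hj hx)))
    rwa [show n s * R * (n s)⁻¹ * (n s * A * (j * x)) * b' = n s * g by rw [e, hwe]; group] at hC
  -- the subgroup generated by the lifts
  let Γ0 := closure ((Bt : Set Γ) ∪ Set.range n)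
  have hC0 : ∀ g ∈ Γ0, C g := by
    intro g hg
    induction hg using Subgroup.closure_induction_left with
    | one => exact C_NS ⟨1, one_mem _, false, 0, by norm_num, by simp [altP]⟩
    | mul_left x hx y _ ih =>
      rcases hx with hx | ⟨s, rfl⟩
      exacts [C_B hx ih, C_n s ih]
    | inv_mul_cancel x hx y _ ih =>
      rcases hx with hx | ⟨s, rfl⟩
      · exact C_B (inv_mem hx) ih
      · rw [show (n s)⁻¹ * y = (n s * n s)⁻¹ * (n s * y) by group]
        exact C_B (inv_mem (JB (TJ (nsq s)))) (C_n s ih)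
  have hsurj : ∀ g, ∃ w ∈ Γ0, φ w = g := by
    have hXs : ∀ s, ∀ x ∈ Xs σ m s, x ∈ Γ0.map φ := fun s x hx => by
      obtain ⟨w, hw, e⟩ := exists_lift_Xs hσ hm hs hk s hx
      exact ⟨w, subset_closure (Or.inl (WB (hXW s hw))), e⟩
    have hng : ∀ s, ng hσ s ∈ Γ0.map φ := fun s => ⟨n s, subset_closure (Or.inr ⟨s, rfl⟩), hn s⟩
    intro g
    have hle : G1 K m ≤ (Γ0.map φ).map (G1 K m).subtype := by
      refine gens_le hσ (fun b t => ⟨pg hσ b t, ?_, rfl⟩) (fun b x v => ⟨qg hσ b x v, ?_, rfl⟩)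
      · cases b
        · have := mul_mem (mul_mem (hng false) (hXs false (pg hσ true t) (Subgroup.mem_subgroupOf.2 (pgv_pos_mem hσ t)))) (inv_mem (hng false))
          rwa [ng_conj_pg] at this
        · exact hXs false (pg hσ true t) (Subgroup.mem_subgroupOf.2 (pgv_pos_mem hσ t))
      · cases b
        · have := mul_mem (mul_mem (hng true) (hXs true (qg hσ true x v) (Subgroup.mem_subgroupOf.2 (qgv_pos_mem hσ x v)))) (inv_mem (hng true))
          rwa [ng_conj_qg] at this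
        · exact hXs true (qg hσ true x v) (Subgroup.mem_subgroupOf.2 (qgv_pos_mem hσ x v))
    obtain ⟨g', hg', e⟩ := hle g.2
    obtain ⟨w, hw, rfl⟩ := hg'
    exact ⟨w, hw, Subtype.ext e⟩
  have hder : _root_.commutator Γ ≤ Γ0 := by
    rw [_root_.commutator_def, Subgroup.commutator_le]
    intro a _ b _
    obtain ⟨a', ha', ea⟩ := hsurj (φ a)
    obtain ⟨b', hb', eb⟩ := hsurj (φ b)
    rw [SchurTrivial.comm_congr hk ea.symm eb.symm, commutatorElement_def]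
    exact mul_mem (mul_mem (mul_mem ha' hb') (inv_mem ha')) (inv_mem hb')
  refine (eq_bot_iff_forall _).2 fun z hz => ?_
  obtain ⟨b, hb, x, hx, b', hb', e⟩ := hC0 z (hder (hd hz))
  have hBw : ∀ {b}, b ∈ Bt → φ b ∈ Bw K m := fun {b} ⟨w, hw, j, hj, e⟩ => by
    rw [e, map_mul]
    exact mul_mem (U_le_B hσ (sigma_mem hWN hw)) (H_le_B hσ (JH hj))
  have hxB : φ x ∈ Bw K m := by
    have he : φ x = (φ b)⁻¹ * (φ b')⁻¹ := by
      have h1 : φ z = 1 := hz
      rw [e, map_mul, map_mul] at h1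
      rw [eq_inv_mul_iff_mul_eq]
      exact eq_inv_of_mul_eq_one_left h1
    rw [he]
    exact mul_mem (inv_mem (hBw hb)) (inv_mem (hBw hb'))
  have hzB : z ∈ Bt := by
    rw [e]
    exact mul_mem (mul_mem hb (JB (NS_H hx (Nw_inf_Bw hσ hxB (NS_N hx))))) hb'
  obtain ⟨w, hw, j, hj, rfl⟩ := hzB
  have h1 : φ w * φ j = 1 := by rw [← map_mul]; exact hz
  have hwU := sigma_mem hWN hw
  have hwH : φ w ∈ Hw K m := by rw [eq_inv_of_mul_eq_one_left h1]; exact inv_mem (JH hj)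
  have hw1 : φ w = 1 := Subtype.ext
    (pos_inf_diag hc (Subgroup.mem_subgroupOf.1 hwU) (Subgroup.mem_subgroupOf.1 hwH))
  rw [hw1, one_mul] at h1
  rw [hWG w hw hw1, Jinj hj h1, one_mul]

end

end CfsgLib.ReeF4Schur
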