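import Mathlib

/-!
Cyclic Sylow subgroups of GL(n, q) at the primes whose first occurrence is in q^n − 1.
-/

set_option autoImplicit false

namespace CfsgLib.ReeF4Schur

open Matrix

theorem units_pow_sub_mul (q n i : ℕ) (h : i ≤ n) : q ^ n - q ^ i = q ^ i * (q ^ (n - i) - 1) := by
  rw [Nat.mul_sub, mul_one, ← pow_add, Nat.add_sub_cancel' h]

/-- A subgroup of GL(n, K) of r-power order is cyclic when r divides no q^i − 1 with i < n. -/
theorem isCyclic_of_isPGroup_GL {K : Type*} [Field K] [Fintype K] {p : ℕ} [Fact p.Prime] [CharP K p]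
    {n : ℕ} [NeZero n] {r : ℕ} [Fact r.Prime] (hq : ¬ r ∣ Fintype.card K)
    (hr : ∀ i, 0 < i → i < n → ¬ r ∣ Fintype.card K ^ i - 1)
    {R : Subgroup (GL (Fin n) K)} (hR : IsPGroup r R) : IsCyclic R := by
  classical
  set q := Fintype.card K with hq'
  let L := FiniteField.Extension K p n
  haveI : Finite L := inferInstanceAs (Finite (FiniteField.Extension K p n))
  let b : Module.Basis (Fin n) K L :=
    Module.finBasisOfFinrankEq K L (FiniteField.finrank_extension K p n)
  let f : Lˣ →* GL (Fin n) K := Units.map (Algebra.leftMulMatrix b).toMonoidHom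
  have hf : Function.Injective f := Units.map_injective (Algebra.leftMulMatrix_injective b)
  set S := f.range
  have hS : Nat.card S = q ^ n - 1 := by
    rw [show Nat.card S = Nat.card Lˣ from (Nat.card_congr (MonoidHom.ofInjective hf).toEquiv).symm,
      Nat.card_units, FiniteField.natCard_extension, Nat.card_eq_fintype_card]
  haveI : IsCyclic S := isCyclic_of_surjective f.rangeRestrict f.rangeRestrict_surjective
  have h2 : 2 ≤ q := Fintype.one_lt_card
  have hfac : (Nat.card (GL (Fin n) K)).factorization r = (Nat.card S).factorization r := by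
    have hne : ∀ i : Fin n, q ^ n - q ^ (i : ℕ) ≠ 0 := fun i =>
      (Nat.sub_pos_of_lt (Nat.pow_lt_pow_right h2 i.2)).ne'
    rw [Matrix.card_GL_field, hS, Nat.factorization_prod fun i _ => hne i, Finsupp.finsetSum_apply,
      Finset.sum_eq_single (⟨0, Nat.pos_of_ne_zero (NeZero.ne n)⟩ : Fin n)]
    · simp [hq']
    · intro i _ hi
      have hi0 : 0 < (i : ℕ) := Nat.pos_of_ne_zero fun e => hi (Fin.ext e)
      rw [units_pow_sub_mul _ _ _ i.2.le]
      refine Nat.factorization_eq_zero_of_not_dvd fun h => ?_
      rcases (Nat.Prime.dvd_mul Fact.out).1 h with h | h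
      · exact hq ((Fact.out : r.Prime).dvd_of_dvd_pow h)
      · exact hr _ (Nat.sub_pos_of_lt i.2) (Nat.sub_lt (Nat.pos_of_ne_zero (NeZero.ne n)) hi0) h
    · simp
  let P : Sylow r S := default
  have hP : Nat.card ((P : Subgroup S).map S.subtype) =
      r ^ (Nat.card (GL (Fin n) K)).factorization r := by
    rw [Subgroup.card_map_of_injective S.subtype_injective, P.card_eq_multiplicity, hfac]
  let Q : Sylow r (GL (Fin n) K) := Sylow.ofCard _ hP
  obtain ⟨Q', hQ'⟩ := hR.exists_le_sylow
  obtain ⟨g, hg⟩ := MulAction.exists_smul_eq (GL (Fin n) K) Q Q'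
  haveI : IsCyclic (Q : Subgroup (GL (Fin n) K)) :=
    isCyclic_of_surjective _ ((P : Subgroup S).equivMapOfInjective _ S.subtype_injective).surjective
  haveI : IsCyclic (Q' : Subgroup (GL (Fin n) K)) := by
    rw [← hg]
    exact isCyclic_of_surjective _ (Q.equivSMul g).surjective
  exact isCyclic_of_injective _ (Subgroup.inclusion_injective hQ')

end CfsgLib.ReeF4Schur
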