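import Cfsg.Agent.Lib.ReeF4Schur.Block
import Cfsg.Agent.Lib.ReeF4Schur.GLCyclic

/-!
2F4(q): the two Levi subgroups of rank one — the Bruhat form, the centralisers, and cyclicity of the
odd Sylow subgroups.
-/

set_option autoImplicit false
set_option linter.unusedSectionVars false
set_option maxRecDepth 4000

namespace CfsgLib.ReeF4Schur

open Cfsg.Lie CfsgLib.Chev CfsgLib.ReeF4 CfsgLib.ReeF4Out

variable {K : Type*} [Field K] [Fintype K] {m : ℕ} {σ : MulAut ↥(chevF4.group K)}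

/-- the class of a node -/
def node (s : Bool) : Fin 8 := cond s 7 0

theorem keep_class : ∀ s : Bool, ∀ r : Fin 48, KeepRoot chevF4 tb (jl s) r →
    ∃ j : Fin 8, node s ≠ j ∧ (r : ℕ) ∈ cl j := by
  unfold KeepRoot; decide +kernel

theorem lroot_class : ∀ s : Bool, ∀ r ∈ lroots s,
    r ∈ cl (node s) ∨ ∃ r' ∈ cl (node s), r = chevF4.neg r' := by decide +kernel

theorem witness_entries :
    (∃ i j : Fin (bdim false), i ≠ j ∧ (∑ l : Fin (bdim false),
      ((if (blk false).getD i.val 0 = (blk false).getD l.val 0 then 1 else 0) +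
        coeffAt (decCode chevF4 tb (field (tb.t1.get 33) (cd chevF4 (iota false l)))) (cd chevF4 (iota false i)) +
        coeffAt (decCode chevF4 tb (field (tb.t2.get 33) (cd chevF4 (iota false l)))) (cd chevF4 (iota false i)) +
        coeffAt (decCode chevF4 tb (field (tb.t3.get 33) (cd chevF4 (iota false l)))) (cd chevF4 (iota false i))) *
      ((if (blk false).getD l.val 0 = (blk false).getD j.val 0 then 1 else 0) +
        coeffAt (decCode chevF4 tb (field (tb.t1.get 24) (cd chevF4 (iota false j)))) (cd chevF4 (iota false l)) +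
        coeffAt (decCode chevF4 tb (field (tb.t2.get 24) (cd chevF4 (iota false j)))) (cd chevF4 (iota false l)) +
        coeffAt (decCode chevF4 tb (field (tb.t3.get 24) (cd chevF4 (iota false j)))) (cd chevF4 (iota false l)))) % 2 = 1) ∧
    (∃ i j : Fin (bdim true), i ≠ j ∧ (∑ l : Fin (bdim true),
      ((if (blk true).getD i.val 0 = (blk true).getD l.val 0 then 1 else 0) +
        coeffAt (decCode chevF4 tb (field (tb.t1.get 28) (cd chevF4 (iota true l)))) (cd chevF4 (iota true i)) +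
        coeffAt (decCode chevF4 tb (field (tb.t2.get 28) (cd chevF4 (iota true l)))) (cd chevF4 (iota true i)) +
        coeffAt (decCode chevF4 tb (field (tb.t3.get 28) (cd chevF4 (iota true l)))) (cd chevF4 (iota true i))) *
      ((if (blk true).getD l.val 0 = (blk true).getD j.val 0 then 1 else 0) +
        coeffAt (decCode chevF4 tb (field (tb.t1.get 30) (cd chevF4 (iota true j)))) (cd chevF4 (iota true l)) +
        coeffAt (decCode chevF4 tb (field (tb.t2.get 30) (cd chevF4 (iota true j)))) (cd chevF4 (iota true l)) +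
        coeffAt (decCode chevF4 tb (field (tb.t3.get 30) (cd chevF4 (iota true j)))) (cd chevF4 (iota true l)))) % 2 = 1) := by
  decide +kernel

theorem det_nodes :
    (2 * (pm (expP 27) (expQ 34) - pm (expP 34) (expQ 27)).1 ^ 2 -
      (pm (expP 27) (expQ 34) - pm (expP 34) (expQ 27)).2 ^ 2 ∈ norms) ∧
    (2 * (pm (expP 33) (expQ 34) - pm (expP 34) (expQ 33)).1 ^ 2 -
      (pm (expP 33) (expQ 34) - pm (expP 34) (expQ 33)).2 ^ 2 ∈ norms) ∧
    (2 * (pm (0, 0) (expQ 24) - pm (expP 24) (3, -4)).1 ^ 2 -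
      (pm (0, 0) (expQ 24) - pm (expP 24) (3, -4)).2 ^ 2 ∈ norms) ∧
    (2 * (pm (4, -4) (expQ 25) - pm (expP 25) (0, 0)).1 ^ 2 -
      (pm (4, -4) (expQ 25) - pm (expP 25) (0, 0)).2 ^ 2 ∈ norms) ∧
    (2 * (pm ((0 : ℤ), (0 : ℤ)) (0, 0) - pm (4, -4) (3, -4)).1 ^ 2 -
      (pm ((0 : ℤ), (0 : ℤ)) (0, 0) - pm (4, -4) (3, -4)).2 ^ 2 ∈ norms) := by
  unfold pm expP expQ norms; decide +kernel

theorem sigs_eight : ∀ s : Bool, ∀ r : Fin 48,
    sigs chevF4 tb (altW false 8 ++ jl s) r = sigs chevF4 tb (jl s ++ altW false 8) r := by decide +kernel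

section
variable (hσ : IsSigma m σ)
include hσ

theorem Xs_norm (s : Bool) : Norms (Hw K m) (Xs σ m s) := by
  cases s
  · rw [← Gs_zero hσ]; exact norms_Gs hσ _
  · rw [← Gs_seven hσ]; exact norms_Gs hσ _

theorem ng_sq_inv (s : Bool) : (ng hσ s * ng hσ s)⁻¹ ∈ Hw K m := inv_mem (ng_sq hσ s)

theorem Ys_norm (s : Bool) : Norms (Hw K m) (Ys hσ s) := by
  rintro t ht _ ⟨x, hx, rfl⟩
  refine ⟨_, Xs_norm hσ s _ (ng_normH hσ s ht) x hx, ?_⟩
  simp [MulAut.conj_apply, mul_assoc]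

theorem ng_conj_Ys (s : Bool) {y : ↥(G1 K m)} (hy : y ∈ Ys hσ s) :
    ng hσ s * y * (ng hσ s)⁻¹ ∈ Xs σ m s := by
  obtain ⟨x, hx, rfl⟩ := hy
  have := Xs_norm hσ s _ (ng_sq hσ s) x hx
  simpa [MulAut.conj_apply, mul_assoc] using this

theorem ng_inv_conj_Xs (s : Bool) {x : ↥(G1 K m)} (hx : x ∈ Xs σ m s) :
    (ng hσ s)⁻¹ * x * ng hσ s ∈ Ys hσ s := by
  refine ⟨_, Xs_norm hσ s _ (ng_sq_inv hσ s) x hx, ?_⟩
  simp [MulAut.conj_apply, mul_assoc]

theorem ng_false_eq : ng hσ false = NP hσ 1 := by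
  refine Subtype.ext ?_
  rw [coe_NP, one_pow]
  show nJ K false = _
  rw [nJ, ← simple_p.1, ← simple_p.2]
  simp [jl, nProd_cons, nProd_nil]

theorem ng_mem_Lv (s : Bool) : ng hσ s ∈ Lv hσ s := by
  have hp : ∀ t, pg hσ true t ∈ Lv hσ false := fun t => Subgroup.mem_sup_left (pgv_pos_mem hσ t)
  have hp' : ∀ t, pg hσ false t ∈ Lv hσ false := fun t =>
    Subgroup.mem_sup_right ⟨pg hσ true t, pgv_pos_mem hσ t, ng_conj_pg hσ true t⟩
  cases s
  · rw [ng_false_eq hσ, NP]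
    exact mul_mem (mul_mem (hp _) (hp' _)) (hp _)
  · rw [ng_true_eq]
    exact mul_mem (mul_mem (Subgroup.mem_sup_left (qgv_pos_mem hσ _ _))
      (Subgroup.mem_sup_right ⟨_, qgv_pos_mem hσ _ _, ng_conj_qg hσ true _ _⟩))
      (Subgroup.mem_sup_left (qgv_pos_mem hσ _ _))

/-- the centralising element of a Levi subgroup -/
theorem Lv_centralised (s : Bool) (u : Kˣ) {g : ↥(G1 K m)} (hg : g ∈ Lv hσ s) :
    tt hσ (node s) u * g = g * tt hσ (node s) u := by
  refine Subtype.ext ?_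
  have h : (g : GL chevF4.Idx K) ∈ uGen chevF4 K (fun r => r ∈ lroots s) := Lv_le hσ s hg
  show (tt hσ (node s) u : GL chevF4.Idx K) * (g : GL chevF4.Idx K) = g * tt hσ (node s) u
  generalize (g : GL chevF4.Idx K) = y at h ⊢
  induction h using Subgroup.closure_induction with
  | mem y hy =>
    obtain ⟨r, t, hr, hr', rfl⟩ := hy
    obtain ⟨w, hw, hX⟩ := tt_X hσ (node s) u (show r < 48 from hr)
    have hw1 : w = 1 := by
      refine sq_inj hσ ?_
      rw [hw]
      rcases lroot_class s r hr' with h | ⟨r', h, rfl⟩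
      · rw [((det_facts _ _ r h).1 rfl).1]; simp [ep]
      · rw [((det_facts _ _ r' h).1 rfl).2]; simp [ep]
    have := hX t
    rw [hw1, Units.val_one, one_mul] at this
    exact mul_inv_eq_iff_eq_mul.1 this
  | one => simp
  | mul a b _ _ ha hb => rw [← mul_assoc, ha, mul_assoc, hb, mul_assoc]
  | inv a _ ha => exact (Commute.inv_right (show Commute _ a from ha)).eq

/-- the part of `U` normalised by the reflection of a node -/
noncomputable abbrev Uk (σ : MulAut ↥(chevF4.group K)) (m : ℕ) (s : Bool) : Subgroup ↥(G1 K m) :=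
  (V σ (KeepRoot chevF4 tb (jl s))).subgroupOf (G1 K m)

theorem Uk_split (s : Bool) {u : ↥(G1 K m)} (hu : u ∈ Uw K m) :
    ∃ a ∈ Xs σ m s, ∃ r ∈ Uk σ m s, u = a * r := by
  obtain ⟨a, ha, r, hr, e⟩ := fixed_components hσ (P := PosR) (Q := InvRoot chevF4 tb (jl s))
    (R := KeepRoot chevF4 tb (jl s))
    ⟨fun _ _ h => h, fun r u v hr hu h1 h2 hv => by
      have := (closedPos_keep hc (T := tb) ([] : List (Fin chevF4.rank))).2 r u v hr hu ⟨h1, h1⟩ ⟨h2, h2⟩ hv
      exact this.1⟩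
    (closedPos_inv hc _) (closedPos_keep hc _)
    (fun r _ h1 h2 => absurd h1.2 (Nat.not_lt.2 h2.2))
    (fun r _ h => (Nat.lt_or_ge (sigs chevF4 tb (jl s) r) (chevF4.nroots / 2)).imp
      (fun g => ⟨h, g⟩) (fun g => ⟨h, g⟩))
    (fun r hr => (keep_rho s ⟨r, hr⟩).1) (fun r hr => (keep_rho s ⟨r, hr⟩).2)
    ((mem_U hσ).1 hu)
  exact ⟨⟨a, V_pos_le hσ (V_mono (fun _ _ h => h.1) ha)⟩, ha,
    ⟨r, V_pos_le hσ (V_mono (fun _ _ h => h.1) hr)⟩, hr, Subtype.ext e⟩

theorem Uk_norm (s : Bool) : Norms (Hw K m) (Uk σ m s) := fun t ht x hx => by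
  obtain ⟨h1, h2⟩ := Subgroup.mem_inf.1 (Subgroup.mem_subgroupOf.1 hx)
  exact Subgroup.mem_inf.2 ⟨diag_conj_mem hc _ (Subgroup.mem_subgroupOf.1 ht) h1,
    mul_mem (mul_mem (G1_le_fix hσ t.2) h2) (inv_mem (G1_le_fix hσ t.2))⟩

theorem Uk_le (s : Bool) : Uk σ m s ≤ Uw K m := fun _ hx =>
  uGen_mono (fun _ _ h => h.1) (Subgroup.mem_inf.1 (Subgroup.mem_subgroupOf.1 hx)).1

theorem Uk_conj (s : Bool) {r : ↥(G1 K m)} (hr : r ∈ Uk σ m s) :
    ng hσ s * r * (ng hσ s)⁻¹ ∈ Uw K m :=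
  conj_nProd_uGen (jl s) (fun _ _ h => h.2) (Subgroup.mem_inf.1 (Subgroup.mem_subgroupOf.1 hr)).1

theorem Uk_fpf (s : Bool) {u : Kˣ} (hu : u ≠ 1) : Fpf (tt hσ (node s) u) (Uk σ m s) := by
  intro x hx he
  classical
  refine Subtype.ext (eq_one_of_conj hσ (P := KeepRoot chevF4 tb (jl s)) (closedPos_keep hc _)
    (h := (tt hσ (node s) u : GL chevF4.Idx K))
    (fun r => if h : r < 48 then ((tt_X hσ (node s) u h).choose : K) else 0) (fun r hr hP => ?_)
    (Subgroup.mem_inf.1 (Subgroup.mem_subgroupOf.1 hx)).1 (congrArg Subtype.val he))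
  simp only [dif_pos hr]
  obtain ⟨h1, h2⟩ := (tt_X hσ (node s) u hr).choose_spec
  refine ⟨fun e => hu ?_, h2⟩
  obtain ⟨j, hj, hrj⟩ := keep_class s ⟨r, hr⟩ hP
  have hw : (tt_X hσ (node s) u hr).choose = 1 := Units.ext e
  rw [hw, one_zpow] at h1
  exact ep_eq_one hσ ((det_facts _ j r hrj).2 hj).1 h1.symm

/-- the rank one identity inside the Levi subgroup -/
theorem rank_one_Lv (hm : 1 ≤ m) (s : Bool) {x : ↥(G1 K m)} (hx : x ∈ Xs σ m s) (hne : x ≠ 1) :
    ∃ a ∈ Xs σ m s, ∃ h ∈ Lv hσ s ⊓ Hw K m, ∃ a' ∈ Xs σ m s,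
      ng hσ s * x * (ng hσ s)⁻¹ = a * h * ng hσ s * a' := by
  obtain ⟨b, hb, a', ha', e⟩ := rank_one hσ s hx hne
  obtain ⟨v, hv, h, hh', rfl⟩ := B_split hσ hb
  obtain ⟨a, ha, r, hr, rfl⟩ := Uk_split hσ s hv
  obtain ⟨u, hu⟩ := exists_unit hσ hm
  set z := tt hσ (node s) u
  have hz : ∀ {g}, g ∈ Lv hσ s → Commute z g := fun hg => Lv_centralised hσ s u hg
  have hng := ng_mem_Lv hσ s
  have hy : ng hσ s * x * (ng hσ s)⁻¹ ∈ Lv hσ s :=
    mul_mem (mul_mem hng (Subgroup.mem_sup_left hx)) (inv_mem hng)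
  have hzh : Commute z h := torus_comm (tt_mem hσ _ u) hh'
  have hzr : Commute z r := by
    have hre : r = a⁻¹ * (ng hσ s * x * (ng hσ s)⁻¹) * a'⁻¹ * (ng hσ s)⁻¹ * h⁻¹ := by rw [e]; group
    rw [hre]
    exact ((((hz (inv_mem (Subgroup.mem_sup_left ha))).mul_right (hz hy)).mul_right
      (hz (inv_mem (Subgroup.mem_sup_left ha')))).mul_right (hz (inv_mem hng))).mul_right hzh.inv_right
  have hr1 : r = 1 := Uk_fpf hσ s hu r hr (by rw [hzr.eq, mul_inv_cancel_right])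
  rw [hr1, mul_one] at e
  refine ⟨a, ha, h, Subgroup.mem_inf.2 ⟨?_, hh'⟩, a', ha', e⟩
  have he : h = a⁻¹ * (ng hσ s * x * (ng hσ s)⁻¹) * a'⁻¹ * (ng hσ s)⁻¹ := by rw [e]; group
  rw [he]
  exact mul_mem (mul_mem (mul_mem (inv_mem (Subgroup.mem_sup_left ha)) hy)
    (inv_mem (Subgroup.mem_sup_left ha'))) (inv_mem hng)

/-- the Borel subgroup of a Levi subgroup -/
noncomputable def BLv (hσ : IsSigma m σ) (s : Bool) : Subgroup ↥(G1 K m) where
  carrier := {g | ∃ a ∈ Xs σ m s, ∃ h ∈ Lv hσ s ⊓ Hw K m, g = a * h}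
  one_mem' := ⟨1, one_mem _, 1, one_mem _, (mul_one 1).symm⟩
  mul_mem' := by
    rintro _ _ ⟨a, ha, h, hh', rfl⟩ ⟨a', ha', h', hh'', rfl⟩
    exact ⟨a * (h * a' * h⁻¹), mul_mem ha (Xs_norm hσ s h hh'.2 a' ha'), h * h', mul_mem hh' hh'',
      by group⟩
  inv_mem' := by
    rintro _ ⟨a, ha, h, hh', rfl⟩
    exact ⟨h⁻¹ * a⁻¹ * h⁻¹⁻¹, Xs_norm hσ s _ ((Hw K m).inv_mem hh'.2) _ (inv_mem ha), h⁻¹, (Lv hσ s ⊓ Hw K m).inv_mem hh',
      by group⟩

theorem BLv_le (s : Bool) : BLv hσ s ≤ Lv hσ s := fun _ ⟨_, ha, _, hh', e⟩ =>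
  e ▸ mul_mem (Subgroup.mem_sup_left ha) hh'.1

theorem BLv_le_B (s : Bool) : BLv hσ s ≤ Bw K m := fun _ ⟨_, ha, _, hh', e⟩ =>
  e ▸ mul_mem (U_le_B hσ (Xs_le_U hσ s ha)) (H_le_B hσ hh'.2)

theorem ng_conj_LH (s : Bool) {h : ↥(G1 K m)} (hh' : h ∈ Lv hσ s ⊓ Hw K m) :
    ng hσ s * h * (ng hσ s)⁻¹ ∈ Lv hσ s ⊓ Hw K m :=
  Subgroup.mem_inf.2 ⟨mul_mem (mul_mem (ng_mem_Lv hσ s) hh'.1) (inv_mem (ng_mem_Lv hσ s)),
    N_conj_H hσ (ng_mem_N hσ s) hh'.2⟩

theorem ng_sq_LH (s : Bool) : ng hσ s * ng hσ s ∈ Lv hσ s ⊓ Hw K m :=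
  ⟨mul_mem (ng_mem_Lv hσ s) (ng_mem_Lv hσ s), ng_sq hσ s⟩

/-- the Bruhat form in a Levi subgroup -/
theorem Lv_cases (hm : 1 ≤ m) (s : Bool) {g : ↥(G1 K m)} (hg : g ∈ Lv hσ s) :
    g ∈ BLv hσ s ∨ ∃ a ∈ Xs σ m s, ∃ b ∈ BLv hσ s, g = a * ng hσ s * b := by
  let C : ↥(G1 K m) → Prop := fun g =>
    g ∈ BLv hσ s ∨ ∃ a ∈ Xs σ m s, ∃ b ∈ BLv hσ s, g = a * ng hσ s * b
  set n := ng hσ s with hn
  have hX : ∀ {a}, a ∈ Xs σ m s → a ∈ BLv hσ s := fun ha =>
    ⟨_, ha, 1, one_mem _, (mul_one _).symm⟩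
  have hH : ∀ {h}, h ∈ Lv hσ s ⊓ Hw K m → h ∈ BLv hσ s := fun hh' =>
    ⟨1, one_mem _, _, hh', (one_mul _).symm⟩
  have stepH : ∀ h ∈ Lv hσ s ⊓ Hw K m, ∀ g, C g → C (h * g) := by
    rintro h hh' g (hg | ⟨a, ha, b, hb, rfl⟩)
    · exact Or.inl (mul_mem (hH hh') hg)
    · refine Or.inr ⟨h * a * h⁻¹, Xs_norm hσ s h hh'.2 a ha, n⁻¹ * h * n * b, mul_mem (hH ?_) hb, by simp only [hn]; group⟩
      exact Subgroup.mem_inf.2 ⟨mul_mem (mul_mem (inv_mem (ng_mem_Lv hσ s)) hh'.1) (ng_mem_Lv hσ s), ng_normH hσ s hh'.2⟩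
  have stepX : ∀ x ∈ Xs σ m s, ∀ g, C g → C (x * g) := by
    rintro x hx g (hg | ⟨a, ha, b, hb, rfl⟩)
    · exact Or.inl (mul_mem (hX hx) hg)
    · exact Or.inr ⟨x * a, mul_mem hx ha, b, hb, by group⟩
  have stepN : ∀ g, C g → C (n * g) := by
    rintro g (hg | ⟨a, ha, b, hb, rfl⟩)
    · exact Or.inr ⟨1, one_mem _, g, hg, by simp only [hn]; group⟩
    · have hsq : n * n ∈ Lv hσ s ⊓ Hw K m := ng_sq_LH hσ s
      rcases eq_or_ne a 1 with rfl | hne
      · left
        rw [one_mul, ← mul_assoc]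
        exact mul_mem (hH hsq) hb
      · obtain ⟨a1, h1a, h1, h1h, a2, h2a, e⟩ := rank_one_Lv hσ hm s ha hne
        rw [← hn] at e
        refine stepH _ (one_mem _) _ ?_ |> fun h => by simpa using h
        have e' : n * (a * n * b) = a1 * (h1 * (n * (a2 * (n * n * b)))) := by
          calc n * (a * n * b) = n * a * n⁻¹ * (n * n * b) := by group
            _ = _ := by rw [e]; group
        rw [e']
        refine stepX _ h1a _ (stepH _ h1h _ ?_)
        exact Or.inr ⟨1, one_mem _, a2 * (n * n * b), mul_mem (hX h2a) (mul_mem (hH hsq) hb), by simp only [hn]; group⟩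
  have hninv : ∀ g, C g → C (n⁻¹ * g) := fun g h => by
    have := stepN _ (stepH _ (inv_mem (ng_sq_LH hσ s)) g h)
    rwa [show n * ((n * n)⁻¹ * g) = n⁻¹ * g by group] at this
  suffices h : C g from h
  have hYs : ∀ y ∈ Ys hσ s, ∀ g, C g → C (y * g) := by
    rintro _ ⟨x, hx, rfl⟩ g h
    have := stepN _ (stepX _ hx _ (hninv g h))
    simpa [MulAut.conj_apply, mul_assoc] using this
  have key : ∀ g ∈ Lv hσ s, ∀ g', C g' → C (g * g') := by
    intro g hg
    rw [Lv, Subgroup.sup_eq_closure] at hg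
    induction hg using Subgroup.closure_induction_left with
    | one => intro g' h; rwa [one_mul]
    | mul_left x hx y _ ih =>
      intro g' h
      rw [mul_assoc]
      rcases hx with hx | hx
      exacts [stepX _ hx _ (ih g' h), hYs _ hx _ (ih g' h)]
    | inv_mul_cancel x hx y _ ih =>
      intro g' h
      rw [mul_assoc]
      rcases hx with hx | hx
      exacts [stepX _ (inv_mem hx) _ (ih g' h), hYs _ (inv_mem hx) _ (ih g' h)]
  have := key g hg 1 (Or.inl (one_mem _))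
  rwa [mul_one] at this

theorem centralizer_BLv (hm : 1 ≤ m) (s : Bool) {g x : ↥(G1 K m)} (hg : g ∈ Lv hσ s)
    (hx : x ∈ Xs σ m s) (hne : x ≠ 1) (hcx : g * x = x * g) : g ∈ BLv hσ s := by
  rcases Lv_cases hσ hm s hg with h | ⟨a, ha, _, ⟨a', ha', h, hh', rfl⟩, rfl⟩
  · exact h
  exfalso
  set n := ng hσ s with hn
  have h1 : a' * (h * x * h⁻¹) * a'⁻¹ ∈ Xs σ m s :=
    mul_mem (mul_mem ha' (Xs_norm hσ s h hh'.2 x hx)) (inv_mem ha')
  have hkey : n * (a' * (h * x * h⁻¹) * a'⁻¹) * n⁻¹ = a⁻¹ * x * a := by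
    calc n * (a' * (h * x * h⁻¹) * a'⁻¹) * n⁻¹
        = a⁻¹ * ((a * n * (a' * h)) * x * (a * n * (a' * h))⁻¹) * a := by group
      _ = _ := by rw [hcx, mul_inv_cancel_right]
  have hU : n * (a' * (h * x * h⁻¹) * a'⁻¹) * n⁻¹ ∈ Uw K m := by
    rw [hkey]; exact Xs_le_U hσ s (mul_mem (mul_mem (inv_mem ha) hx) ha)
  exact hne (conj_eq_one_iff.1 (conj_eq_one_iff.1 (conj_eq_one_iff.1
    (U_inf_V hσ hU (ng_conj_Xs hσ h1)))))

/-- the cosets of the Borel subgroup of a Levi subgroup -/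
theorem index_BLv (hm : 1 ≤ m) (s : Bool) :
    ((BLv hσ s).subgroupOf (Lv hσ s)).index = Fintype.card K ^ (cond s 2 1) + 1 := by
  obtain ⟨P, hP⟩ := exists_hasBN hσ
  classical
  let f : Option ↥(Xs σ m s) → ↥(Lv hσ s) ⧸ (BLv hσ s).subgroupOf (Lv hσ s) := fun o => match o with
    | none => QuotientGroup.mk 1
    | some x => QuotientGroup.mk ⟨x.1 * ng hσ s, mul_mem (Subgroup.mem_sup_left x.2) (ng_mem_Lv hσ s)⟩
  have hbad : ∀ x : ↥(Xs σ m s), (x : ↥(G1 K m)) * ng hσ s ∉ BLv hσ s := fun x h => by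
    obtain ⟨w, hw, hne⟩ := Xs_witness hσ s
    have hb : ng hσ s ∈ Bw K m := by
      have := mul_mem (inv_mem (U_le_B hσ (Xs_le_U hσ s x.2))) (BLv_le_B hσ s h)
      rwa [inv_mul_cancel_left] at this
    exact hne (conj_eq_one_iff.1 (U_inf_V hσ (B_conj_U hσ hb (Xs_le_U hσ s hw)) (ng_conj_Xs hσ hw)))
  have hbij : Function.Bijective f := by
    refine ⟨?_, fun z => ?_⟩
    · rintro (_ | x) (_ | y) e
      · rfl
      · exact absurd (by simpa [Subgroup.mem_subgroupOf] using QuotientGroup.eq.1 e) (hbad y)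
      · refine absurd ?_ (hbad x)
        simpa [Subgroup.mem_subgroupOf] using (QuotientGroup.eq.1 e.symm)
      · have h : (ng hσ s)⁻¹ * ((x : ↥(G1 K m))⁻¹ * y) * ng hσ s ∈ BLv hσ s := by
          simpa [Subgroup.mem_subgroupOf, mul_assoc] using QuotientGroup.eq.1 e
        have hY := ng_inv_conj_Xs hσ s (mul_mem (inv_mem x.2) y.2)
        have h1 := B_inf_V hσ (BLv_le_B hσ s h) (Ys_le_V hσ s hY)
        rw [show ∀ n z : ↥(G1 K m), n⁻¹ * z * n = n⁻¹ * z * n⁻¹⁻¹ from fun n z => by simp,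
          conj_eq_one_iff, inv_mul_eq_one] at h1
        exact congrArg some (Subtype.ext h1)
    · induction z using QuotientGroup.induction_on with | H g => ?_
      rcases Lv_cases hσ hm s g.2 with h | ⟨a, ha, b, hb, e⟩
      · refine ⟨none, QuotientGroup.eq.2 ?_⟩
        simpa [Subgroup.mem_subgroupOf] using h
      · refine ⟨some ⟨a, ha⟩, QuotientGroup.eq.2 ?_⟩
        rw [Subgroup.mem_subgroupOf]
        show (a * ng hσ s)⁻¹ * (g : ↥(G1 K m)) ∈ BLv hσ s
        rw [e, inv_mul_cancel_left]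
        exact hb
  rw [Subgroup.index, ← Nat.card_congr (Equiv.ofBijective f hbij), Finite.card_option, card_Xs hP s]

omit hσ in
theorem diag_one_eq (hσ : IsSigma m σ) : diag hσ (1 : Kˣ) 1 = 1 := by
  refine Subtype.ext ?_
  show hh K (par (m := m) 1 1) = 1
  rw [show par (m := m) (1 : Kˣ) 1 = 1 from funext fun j => by simp [par], map_one]

theorem diag_in_BL (s : Bool) {h : ↥(G1 K m)} (hh' : h ∈ Hw K m) : (h : GL chevF4.Idx K) ∈ BL K s := by
  have key : ∀ h : ↥(G1 K m), h ∈ Hw K m → Pres s (h : GL chevF4.Idx K) := fun h hh' x i hx => by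
    obtain ⟨P, Q, rfl⟩ := exists_diag hσ hh'
    show ((diag hσ P Q : ↥(G1 K m)) : GL chevF4.Idx K).val x (iota s i) = 0
    rw [diag_coe, Matrix.diagonal_apply_ne _ (Ne.symm (hx i))]
  exact ⟨key h hh', key h⁻¹ (inv_mem hh')⟩

theorem diag_pow_card {h : ↥(G1 K m)} (hh' : h ∈ Hw K m) : h ^ (Fintype.card K - 1) = 1 := by
  obtain ⟨c, e⟩ := (mem_diagonal hc).1 (Subgroup.mem_subgroupOf.1 hh')
  refine Subtype.ext ?_
  rw [SubmonoidClass.coe_pow, ← e, ← map_pow, ← map_pow,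
    show c ^ (Fintype.card K - 1) = 1 from funext fun j => Units.ext (by
      simpa using FiniteField.pow_card_sub_one_eq_one (c j : K) (Units.ne_zero _)), map_one, map_one]
  rfl

theorem X_entry (r : ℕ) (hr : r < 48) (s : Bool) (i j : Fin (bdim s)) :
    (X r (1 : K)).val (iota s i) (iota s j) =
      (((if (blk s).getD i.val 0 = (blk s).getD j.val 0 then 1 else 0) +
        coeffAt (decCode chevF4 tb (field (tb.t1.get r) (cd chevF4 (iota s j)))) (cd chevF4 (iota s i)) +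
        coeffAt (decCode chevF4 tb (field (tb.t2.get r) (cd chevF4 (iota s j)))) (cd chevF4 (iota s i)) +
        coeffAt (decCode chevF4 tb (field (tb.t3.get r) (cd chevF4 (iota s j)))) (cd chevF4 (iota s i)) : ℤ) : K) := by
  rw [coe_elX hc K (show r < chevF4.nroots from hr), xMat_eq hc K (show r < chevF4.nroots from hr)]
  simp only [xTab, Matrix.add_apply, Matrix.smul_apply, Matrix.map_apply, smul_eq_mul, one_pow, one_mul,
    Int.coe_castRingHom, tabMat_apply, tabK_one, tabK_two, tabK_three, Int.cast_add, Matrix.one_apply]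
  congr 3
  rw [apply_ite (Int.cast : ℤ → K), Int.cast_one, Int.cast_zero]
  refine if_congr ⟨fun e => ?_, fun e => ?_⟩ rfl rfl
  · have := congrArg (cd chevF4) e
    simpa [iota] using this
  · simp only [iota]
    congr 2

theorem levRep_witness (s : Bool) :
    ∃ x : ↥(G1 K m), ∃ hx : x ∈ Xs σ m s, levRep hσ s ⟨x, Subgroup.mem_sup_left hx⟩ ≠ 1 ∧
      ∀ y ∈ Xs σ m s, y ≠ 1 → (∃ t ∈ Hw K m, t * x * t⁻¹ = y) ∨
        ∃ t ∈ Hw K m, t * x * t⁻¹ = y * y := by
  have sqr : ∀ (r r' : ℕ), r ∈ lroots s → r' ∈ lroots s → ∀ i j : Fin (bdim s),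
      (X r (1 : K) * X r' 1).val (iota s i) (iota s j) =
        ∑ l, (X r (1 : K)).val (iota s i) (iota s l) * (X r' (1 : K)).val (iota s l) (iota s j) :=
    fun r r' _ hr' i j => Pres.sum (g := X r 1) (X_mem_BL hσ hr' 1).1 (iota s i) j
  cases s
  · refine ⟨pg hσ true 1, pgv_pos_mem hσ 1, fun e => ?_, fun y hy hne => ?_⟩
    · obtain ⟨i, j, hij, hodd⟩ := witness_entries.1
      have h := congrArg (fun M : GL (Fin _) K => M.val i j) e
      rw [levRep_apply, Units.val_one, Matrix.one_apply_ne hij, coe_pg] at h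
      simp only [pR, one_pow] at h
      rw [show f4p1 = 33 from rfl, show f4p4 = 24 from rfl, sqr 33 24 (by decide) (by decide)] at h
      simp only [X_entry hσ _ (show 33 < 48 by decide), X_entry hσ _ (show 24 < 48 by decide),
        ← Int.cast_mul, ← Int.cast_sum, cast_odd hσ hodd] at h
      exact one_ne_zero h
    · obtain ⟨t, rfl⟩ := exists_pg hσ (Subgroup.mem_subgroupOf.1 hy)
      have ht : t ≠ 0 := fun e => hne (by rw [e, pg_zero])
      obtain ⟨u, hu⟩ := sq_surj hσ (Units.mk0 t ht)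
      refine Or.inl ⟨hA hσ u, hA_mem_H hσ u, ?_⟩
      rw [hA_pg, cond_true, zpow_ofNat, hu, mul_one, Units.val_mk0]
  · refine ⟨qg hσ true 0 1, qgv_pos_mem hσ 0 1, fun e => ?_, fun y hy hne => ?_⟩
    · obtain ⟨i, j, hij, hodd⟩ := witness_entries.2
      have h := congrArg (fun M : GL (Fin _) K => M.val i j) e
      rw [levRep_apply, Units.val_one, Matrix.one_apply_ne hij, coe_qg] at h
      simp only [qR, zero_pow (Nat.succ_ne_zero _), zero_pow (pow_ne_zero m (two_ne_zero (α := ℕ))),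
        one_pow, zero_add, X_zero' hσ (show f4a < 48 by decide), X_zero' hσ (show f4b < 48 by decide),
        one_mul] at h
      rw [show f4ab = 28 from rfl, show f4aab = 30 from rfl, sqr 28 30 (by decide) (by decide)] at h
      simp only [X_entry hσ _ (show 28 < 48 by decide), X_entry hσ _ (show 30 < 48 by decide),
        ← Int.cast_mul, ← Int.cast_sum, cast_odd hσ hodd] at h
      exact one_ne_zero h
    · obtain ⟨x, v, rfl⟩ := exists_qg hσ (Subgroup.mem_subgroupOf.1 hy)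
      rcases eq_or_ne x 0 with rfl | hx0
      · have hv : v ≠ 0 := fun e => hne (by rw [e, qg_zero])
        obtain ⟨u, hu⟩ := norm_surj hσ (Units.mk0 v hv)
        refine Or.inl ⟨hB hσ u, hB_mem_H hσ u, ?_⟩
        rw [hB_qg, cond_true, mul_zero, mul_one, show (u : K) ^ (2 ^ m + 1) = v by
          simpa using congrArg Units.val hu]
      · refine Or.inr ⟨hB hσ (Units.mk0 x hx0), hB_mem_H hσ _, ?_⟩
        rw [hB_qg, qg_sq]
        simp

/-- the representation of a Levi subgroup is faithful -/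
theorem levRep_injective (hm : 1 ≤ m) (s : Bool) : Function.Injective (levRep hσ s) := by
  classical
  refine (injective_iff_map_eq_one _).2 fun g hg => ?_
  have hX : ∀ y, ∀ hy : y ∈ Xs σ m s, levRep hσ s ⟨y, Subgroup.mem_sup_left hy⟩ = 1 → y = 1 := by
    intro y hy hy1
    by_contra hne
    obtain ⟨x, hx, hx1, hor⟩ := levRep_witness hσ s
    apply hx1
    have key : ∀ t ∈ Hw K m, ∀ z, ∀ hz : z ∈ Lv hσ s, levRep hσ s ⟨z, hz⟩ = 1 → t * x * t⁻¹ = z →
        levRep hσ s ⟨x, Subgroup.mem_sup_left hx⟩ = 1 := by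
      intro t ht z hz hz1 e
      let T : ↥(BL K s) := ⟨(t : GL chevF4.Idx K), diag_in_BL hσ s ht⟩
      let Xe : ↥(BL K s) := ⟨(x : GL chevF4.Idx K), uGen_le_BL hσ s (Lv_le hσ s (Subgroup.mem_sup_left hx))⟩
      have h1 : rho' K s (T * Xe * T⁻¹) = 1 := by
        rw [← hz1]
        exact congrArg (rho' K s) (Subtype.ext (show (t : GL chevF4.Idx K) * (x : GL chevF4.Idx K) *
          (t : GL chevF4.Idx K)⁻¹ = (z : GL chevF4.Idx K) from congrArg Subtype.val e))
      rw [map_mul, map_mul, map_inv, conj_eq_one_iff] at h1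
      exact h1
    rcases hor y hy hne with ⟨t, ht, e⟩ | ⟨t, ht, e⟩
    · exact key t ht y _ hy1 e
    · exact key t ht (y * y) (mul_mem (Subgroup.mem_sup_left hy) (Subgroup.mem_sup_left hy))
        (show levRep hσ s (⟨y, Subgroup.mem_sup_left hy⟩ * ⟨y, Subgroup.mem_sup_left hy⟩) = 1 by
          rw [map_mul, hy1, one_mul]) e
  have hB : ∀ g : ↥(Lv hσ s), levRep hσ s g = 1 → (g : ↥(G1 K m)) ∈ BLv hσ s → g = 1 := by
    rintro g hg ⟨a, ha, h, hh', e⟩
    set A : ↥(Lv hσ s) := ⟨a, Subgroup.mem_sup_left ha⟩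
    set H' : ↥(Lv hσ s) := ⟨h, hh'.1⟩
    have hg' : g = A * H' := Subtype.ext e
    rw [hg', map_mul, mul_eq_one_iff_eq_inv] at hg
    have o1 : ∃ k : ℕ, orderOf (levRep hσ s A) ∣ 2 ^ k := by
      obtain ⟨PB, hPB⟩ := exists_hasBN hσ
      obtain ⟨Q, hQ⟩ := sylow_U hPB
      have hP : IsPGroup 2 ↥(Uw K m) := hQ ▸ Q.isPGroup'
      obtain ⟨k, hk⟩ := hP ⟨a, Xs_le_U hσ s ha⟩
      refine ⟨k, orderOf_dvd_of_pow_eq_one ?_⟩
      rw [← map_pow, show A ^ 2 ^ k = 1 from Subtype.ext (by simpa using congrArg Subtype.val hk), map_one]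
    obtain ⟨k, hk⟩ := o1
    have o2 : orderOf (levRep hσ s A) ∣ Fintype.card K - 1 := by
      rw [hg, orderOf_inv]
      refine orderOf_dvd_of_pow_eq_one ?_
      rw [← map_pow, show H' ^ (Fintype.card K - 1) = 1 from
        Subtype.ext (by simpa using diag_pow_card hσ hh'.2), map_one]
    have hco : Nat.Coprime (2 ^ k) (Fintype.card K - 1) := by
      refine Nat.Coprime.pow_left _ (Nat.coprime_two_left.2 ?_)
      rw [hσ.card]
      exact Nat.Even.sub_odd Nat.one_le_two_pow ((Nat.even_pow' (by omega)).2 even_two) odd_one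
    have hA1 : levRep hσ s A = 1 := orderOf_eq_one_iff.1 (Nat.eq_one_of_dvd_coprimes hco hk o2)
    have ha1 : a = 1 := hX a ha hA1
    have hH1 : levRep hσ s H' = 1 := by rw [← inv_eq_one, ← hg, hA1]
    obtain ⟨P, Q, hPQ⟩ := exists_diag hσ hh'.2
    have hent : ∀ l : Fin (bdim s), wt (m := m) P Q ((blk s).getD l.val 0) = 1 := fun l => by
      have h' := congrArg (fun M : GL (Fin _) K => M.val l l) hH1
      rw [levRep_apply, Units.val_one, Matrix.one_apply_eq] at h'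
      apply Units.ext
      rw [Units.val_one, ← h', show ((H' : ↥(G1 K m))) = diag hσ P Q from hPQ]
      exact (diag_entry hσ P Q _).symm
    have hh1 : P = 1 ∧ Q = 1 := by
      cases s
      · exact ep_two hσ (hent ⟨0, by decide⟩) (hent ⟨1, by decide⟩) det_nodes.1
      · exact ep_two hσ (hent ⟨0, by decide⟩) (hent ⟨1, by decide⟩) det_nodes.2.1
    refine Subtype.ext ?_
    rw [e, ha1, hPQ, hh1.1, hh1.2, diag_one_eq hσ, one_mul]
    rfl
  by_contra hg1
  obtain ⟨t, ht⟩ := exists_unit hσ hm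
  have ht1 : (1 : K) + (t : K) ≠ 0 := fun e => ht (Units.ext (by
    rw [Units.val_one]; linear_combination e - hσ.char2))
  obtain ⟨u, hu, hu2, v, hv, hv2, huv⟩ : ∃ u ∈ Xs σ m s, (u ≠ 1 ∧ u * u = 1) ∧ ∃ v ∈ Xs σ m s,
      (v ≠ 1 ∧ v * v = 1) ∧ u * v ≠ 1 := by
    cases s
    · refine ⟨_, pgv_pos_mem hσ 1, ⟨pg_ne_one hσ, pg_self hσ true 1⟩, _, pgv_pos_mem hσ (t : K),
        ⟨fun e => t.ne_zero (pg_inj hσ (b := true) (e.trans (pg_zero hσ true).symm)), pg_self hσ true _⟩,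
        fun e => ht1 ?_⟩
      exact pg_inj hσ (b := true) (((pg_mul hσ true 1 (t : K)).symm.trans e).trans (pg_zero hσ true).symm)
    · have sq0 : ∀ w : K, qg hσ true 0 w * qg hσ true 0 w = 1 := fun w => by
        rw [qg_sq, zero_pow (Nat.succ_ne_zero _), qg_zero]
      refine ⟨_, qgv_pos_mem hσ 0 1, ⟨fun e => one_ne_zero (qg_inj hσ (b := true) (e.trans (qg_zero hσ true).symm)).2,
        sq0 1⟩, _, qgv_pos_mem hσ 0 (t : K),
        ⟨fun e => t.ne_zero (qg_inj hσ (b := true) (e.trans (qg_zero hσ true).symm)).2, sq0 _⟩, fun e => ht1 ?_⟩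
      have := (qg_inj hσ (b := true) (((qg_mul hσ true 0 1 0 (t : K)).symm.trans e).trans (qg_zero hσ true).symm)).2
      simpa using this
  let Kr := (levRep hσ s).ker
  have inv_all : ∀ w, w ∈ Xs σ m s → w ≠ 1 ∧ w * w = 1 → ∀ k : ↥(Lv hσ s), k ∈ Kr →
      w * (k : ↥(G1 K m)) * w = (k : ↥(G1 K m))⁻¹ := by
    intro w hw hw2 k hk
    let W : ↥(Lv hσ s) := ⟨w, Subgroup.mem_sup_left hw⟩
    have hWW : W * W = 1 := Subtype.ext hw2.2
    let f : ↥Kr → ↥Kr := fun k => ⟨(k : ↥(Lv hσ s))⁻¹ * (W * k * W), mul_mem (inv_mem k.2) (by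
      have hn := (MonoidHom.normal_ker (levRep hσ s)).conj_mem _ k.2 W
      rwa [show W⁻¹ = W from inv_eq_of_mul_eq_one_right hWW] at hn)⟩
    have hinj : Function.Injective f := by
      intro a b e
      have e' : (a : ↥(Lv hσ s))⁻¹ * (W * a * W) = (b : ↥(Lv hσ s))⁻¹ * (W * b * W) :=
        congrArg Subtype.val e
      set z : ↥(Lv hσ s) := (b : ↥(Lv hσ s)) * (a : ↥(Lv hσ s))⁻¹ with hz
      have hzW : z * W = W * z := by
        have e2 : (a : ↥(Lv hσ s))⁻¹ * W * a = (b : ↥(Lv hσ s))⁻¹ * W * b :=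
          mul_right_cancel (b := W) (by simpa [mul_assoc] using e')
        calc z * W = b * ((a : ↥(Lv hσ s))⁻¹ * W * a) * (a : ↥(Lv hσ s))⁻¹ := by rw [hz]; group
          _ = W * z := by rw [e2, hz]; group
      have hzB := centralizer_BLv hσ hm s z.2 hw hw2.1 (congrArg Subtype.val hzW)
      have hz1 := hB z (mul_mem b.2 (inv_mem a.2)) hzB
      exact Subtype.ext (mul_inv_eq_one.1 hz1).symm
    obtain ⟨y, hy⟩ := Finite.injective_iff_surjective.1 hinj ⟨k, hk⟩
    have hy' : (y : ↥(Lv hσ s))⁻¹ * (W * y * W) = k := congrArg Subtype.val hy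
    have : W * k * W = k⁻¹ := by
      rw [← hy', show W * ((y : ↥(Lv hσ s))⁻¹ * (W * y * W)) * W =
        W * (y : ↥(Lv hσ s))⁻¹ * W * y * (W * W) by group, hWW, mul_one, _root_.mul_inv_rev, _root_.mul_inv_rev,
        _root_.mul_inv_rev, inv_inv, show W⁻¹ = W from inv_eq_of_mul_eq_one_right hWW]
      group
    exact congrArg Subtype.val this
  have h1 := inv_all u hu hu2 g hg
  have h2 := inv_all v hv hv2 g hg
  set g' : ↥(G1 K m) := (g : ↥(G1 K m))
  have hcm : g' * (u * v) = u * v * g' := by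
    have eu : u * g' = g'⁻¹ * u := by
      calc u * g' = u * g' * (u * u) := by rw [hu2.2, mul_one]
        _ = _ := by rw [← mul_assoc, h1]
    have ev : g' * v = v * g'⁻¹ := by
      calc g' * v = v * v * (g' * v) := by rw [hv2.2, one_mul]
        _ = _ := by rw [mul_assoc v v, ← mul_assoc v g' v, h2]
    have eu' : g' * u = u * g'⁻¹ := by
      calc g' * u = u * u * (g' * u) := by rw [hu2.2, one_mul]
        _ = _ := by rw [mul_assoc u u, ← mul_assoc u g' u, h1]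
    have ev' : v * g' = g'⁻¹ * v := by
      calc v * g' = v * g' * (v * v) := by rw [hv2.2, mul_one]
        _ = _ := by rw [← mul_assoc, h2]
    calc g' * (u * v) = u * (g'⁻¹ * v) := by rw [← mul_assoc, eu', mul_assoc]
      _ = u * (v * g') := by rw [ev']
      _ = _ := (mul_assoc _ _ _).symm
  exact hg1 (hB g hg (centralizer_BLv hσ hm s g.2 (mul_mem hu hv) huv hcm))

/-- the scalar on the root of the node -/
noncomputable def lam (s : Bool) (h : ↥(G1 K m)) : K :=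
  (h : GL chevF4.Idx K).val (Sum.inr ⟨cond s 25 24, by cases s <;> decide⟩)
    (Sum.inr ⟨cond s 25 24, by cases s <;> decide⟩)

/-- a Sylow subgroup of odd order of a Levi subgroup is cyclic -/
theorem sylow_cyclic (hm : 1 ≤ m) (s : Bool) {r : ℕ} [Fact r.Prime] (hr2 : r ≠ 2)
    (R : Sylow r ↥(Lv hσ s)) : IsCyclic (R : Subgroup ↥(Lv hσ s)) := by
  classical
  haveI : Fact (Nat.Prime 2) := ⟨Nat.prime_two⟩
  haveI : CharP K 2 := CfsgLib.ReeF4.charP_two hσ.card
  have hrp : r.Prime := Fact.out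
  set q := Fintype.card K with hqdef
  have hrq : ¬ r ∣ q := fun h => hr2 ((Nat.prime_dvd_prime_iff_eq hrp Nat.prime_two).1
    (hrp.dvd_of_dvd_pow (m := 2) (n := 2 * m + 1) (by rw [← hσ.card]; exact h)))
  have hq1 : 1 ≤ q := Fintype.card_pos
  by_cases hdiv : r ∣ q ^ (cond s 2 1) + 1
  · haveI : NeZero (bdim s) := ⟨by cases s <;> decide⟩
    have hlow : ∀ i, 0 < i → i < bdim s → ¬ r ∣ q ^ i - 1 := by
      intro i h0 hi hd
      have hmod : ((q : ZMod r)) ^ (cond s 2 1) = -1 := by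
        have := (ZMod.natCast_eq_zero_iff (q ^ (cond s 2 1) + 1) r).2 hdiv
        push_cast at this
        linear_combination this
      have hd' : ((q : ZMod r)) ^ i = 1 := by
        have := (ZMod.natCast_eq_zero_iff (q ^ i - 1) r).2 hd
        rw [Nat.cast_sub (Nat.one_le_pow _ _ hq1)] at this
        push_cast at this
        linear_combination this
      have h2 : (2 : ZMod r) ≠ 0 := fun e => hr2 ((Nat.prime_dvd_prime_iff_eq hrp Nat.prime_two).1
        ((ZMod.natCast_eq_zero_iff 2 r).1 (by exact_mod_cast e)))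
      apply h2
      cases s
      · obtain rfl : i = 1 := by simp only [bdim, cond_false] at hi; omega
        simp only [cond_false, pow_one] at hmod hd'
        linear_combination hmod - hd'
      · simp only [cond_true] at hmod
        have hi' : i < 4 := hi
        interval_cases i
        · rw [pow_one] at hd'
          linear_combination hmod - ((q : ZMod r) + 1) * hd'
        · linear_combination hmod - hd'
        · have e : (q : ZMod r) = -1 := by linear_combination (q : ZMod r) * hmod - hd'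
          rw [e] at hmod
          linear_combination hmod
    have hp : IsPGroup r ((R : Subgroup ↥(Lv hσ s)).map (levRep hσ s)) := R.isPGroup'.map _
    haveI := isCyclic_of_isPGroup_GL (p := 2) hrq hlow hp
    exact isCyclic_of_surjective _
      ((R : Subgroup ↥(Lv hσ s)).equivMapOfInjective _ (levRep_injective hσ hm s)).symm.surjective
  · -- the Sylow subgroups lie in conjugates of the Borel subgroup
    set B := (BLv hσ s).subgroupOf (Lv hσ s)
    have hidx : ¬ r ∣ B.index := by rw [index_BLv hσ hm s]; exact hdiv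
    let P : Sylow r ↥B := default
    have hP : Nat.card ((P : Subgroup ↥B).map B.subtype) =
        r ^ (Nat.card ↥(Lv hσ s)).factorization r := by
      rw [Subgroup.card_map_of_injective B.subtype_injective, P.card_eq_multiplicity, ← B.card_mul_index,
        Nat.factorization_mul Nat.card_pos.ne' Subgroup.FiniteIndex.index_ne_zero, Finsupp.add_apply,
        Nat.factorization_eq_zero_of_not_dvd hidx, add_zero]
    let Q : Sylow r ↥(Lv hσ s) := Sylow.ofCard _ hP
    have hQ : IsCyclic (Q : Subgroup ↥(Lv hσ s)) := by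
      have split : ∀ b : ↥(Q : Subgroup ↥(Lv hσ s)), ∃ h, h ∈ Lv hσ s ⊓ Hw K m ∧
          ∃ a ∈ Xs σ m s, ((b : ↥(Lv hσ s)) : ↥(G1 K m)) = a * h := by
        intro b
        obtain ⟨p, -, e⟩ := b.2
        obtain ⟨a, ha, h, hh', e'⟩ := Subgroup.mem_subgroupOf.1 p.2
        exact ⟨h, hh', a, ha, by rw [← e]; exact e'⟩
      choose H1 hH1 A1 hA1 hsplit using split
      have uniq : ∀ {a a' h h'}, a ∈ Xs σ m s → a' ∈ Xs σ m s → h ∈ Hw K m → h' ∈ Hw K m →
          a * h = a' * h' → h = h' := by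
        intro a a' h h' ha ha' hh' hh'' e
        have e' : a'⁻¹ * a = h' * h⁻¹ := by
          rw [inv_mul_eq_iff_eq_mul, ← mul_assoc, ← e, mul_inv_cancel_right]
        have := pos_inf_diag hc (Subgroup.mem_subgroupOf.1 (Xs_le_U hσ s (mul_mem (inv_mem ha') ha)))
          (show ((a'⁻¹ * a : ↥(G1 K m)) : GL chevF4.Idx K) ∈ chevF4.diagonalSubgroup K by
            rw [e']; exact mul_mem hh'' (inv_mem hh'))
        have h1 : a'⁻¹ * a = 1 := Subtype.ext this
        rw [h1] at e'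
        exact (mul_inv_eq_one.1 e'.symm).symm
      have hmul : ∀ x y, H1 (x * y) = H1 x * H1 y := fun x y => by
        refine uniq (hA1 (x * y)) (mul_mem (hA1 x) (Xs_norm hσ s _ (hH1 x).2 _ (hA1 y))) (hH1 _).2
          (mul_mem (hH1 x).2 (hH1 y).2) ?_
        rw [← hsplit, Subgroup.coe_mul, Subgroup.coe_mul, hsplit, hsplit]
        group
      have lam_mul : ∀ h h' : ↥(G1 K m), h ∈ Hw K m → h' ∈ Hw K m →
          lam s (h * h') = lam s h * lam s h' := by
        intro h h' hh' hh''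
        obtain ⟨P1, Q1, rfl⟩ := exists_diag hσ hh'
        obtain ⟨P2, Q2, rfl⟩ := exists_diag hσ hh''
        simp only [lam, Subgroup.coe_mul, Units.val_mul]
        rw [diag_coe, diag_coe, Matrix.diagonal_mul_diagonal, Matrix.diagonal_apply_eq,
          Matrix.diagonal_apply_eq, Matrix.diagonal_apply_eq]
      have lam_one : lam s (1 : ↥(G1 K m)) = 1 := by
        simp [lam]
      let ψ : ↥(Q : Subgroup ↥(Lv hσ s)) →* K :=
        { toFun := fun x => lam s (H1 x)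
          map_one' := by
            have : H1 1 = 1 := uniq (hA1 1) (one_mem (Xs σ m s)) (hH1 1).2 (one_mem _)
              (by rw [← hsplit]; simp)
            rw [this, lam_one]
          map_mul' := fun x y => by rw [hmul, lam_mul _ _ (hH1 x).2 (hH1 y).2] }
      refine isCyclic_of_injective ψ.toHomUnits ((injective_iff_map_eq_one _).2 fun x hx => ?_)
      have hx' : lam s (H1 x) = 1 := congrArg Units.val hx
      obtain ⟨P', Q', hPQ⟩ := exists_diag hσ (hH1 x).2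
      have hdet := det_diag hσ (P := P') (Q := Q') (hPQ ▸ (hH1 x).1)
      rw [hPQ, lam, diag_entry] at hx'
      have hw : wt (m := m) P' Q' (cond s 25 24) = 1 := Units.ext hx'
      have h11 : P' = 1 ∧ Q' = 1 := by
        cases s
        · simp only [exp_sums.1, exp_sums.2.1] at hdet
          exact ep_two hσ hdet hw det_nodes.2.2.1
        · simp only [exp_sums.2.2.1, exp_sums.2.2.2] at hdet
          exact ep_two hσ hdet hw det_nodes.2.2.2.1
      have hh1 : H1 x = 1 := by rw [hPQ, h11.1, h11.2, diag_one_eq hσ]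
      obtain ⟨PB, hPB⟩ := exists_hasBN hσ
      obtain ⟨QU, hQU⟩ := sylow_U hPB
      have hU : IsPGroup 2 ↥(Uw K m) := hQU ▸ QU.isPGroup'
      have hxa : ((x : ↥(Lv hσ s)) : ↥(G1 K m)) ∈ Uw K m := by
        rw [hsplit, hh1, mul_one]; exact Xs_le_U hσ s (hA1 x)
      obtain ⟨k, hk⟩ := hU ⟨_, hxa⟩
      obtain ⟨j, hj⟩ := Q.isPGroup' x
      have hk' : x ^ 2 ^ k = 1 := Subtype.ext (Subtype.ext (by simpa using congrArg Subtype.val hk))
      exact orderOf_eq_one_iff.1 (Nat.eq_one_of_dvd_coprimes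
        (Nat.Coprime.pow _ _ ((Nat.coprime_primes hrp Nat.prime_two).2 hr2))
        (orderOf_dvd_of_pow_eq_one hj) (orderOf_dvd_of_pow_eq_one hk'))
    obtain ⟨g, hg⟩ := MulAction.exists_smul_eq ↥(Lv hσ s) Q R
    rw [← hg]
    exact isCyclic_of_surjective _ (Q.equivSMul g).surjective

/-- the root group is a Sylow 2-subgroup of the Levi subgroup -/
theorem two_not_dvd_index (hm : 1 ≤ m) (s : Bool) :
    ¬ 2 ∣ ((Xs σ m s).subgroupOf (Lv hσ s)).index := by
  set Xl := (Xs σ m s).subgroupOf (Lv hσ s)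
  set B := (BLv hσ s).subgroupOf (Lv hσ s)
  have hle : Xl ≤ B := fun x hx => Subgroup.mem_subgroupOf.2
    ⟨_, Subgroup.mem_subgroupOf.1 hx, 1, one_mem _, (mul_one _).symm⟩
  have hq : Even (Fintype.card K) := by rw [hσ.card]; exact (Nat.even_pow' (by omega)).2 even_two
  rw [← Subgroup.relIndex_mul_index hle, index_BLv hσ hm s]
  intro h
  rcases (Nat.Prime.dvd_mul Nat.prime_two).1 h with h | h
  · have hsurj : ∀ x : ↥B, ∃ h : ↥(Lv hσ s ⊓ Hw K m), ∃ a ∈ Xs σ m s,
        ((x : ↥(Lv hσ s)) : ↥(G1 K m)) = a * h := fun x => by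
      obtain ⟨a, ha, h, hh', e⟩ := Subgroup.mem_subgroupOf.1 x.2
      exact ⟨⟨h, hh'⟩, a, ha, e⟩
    let f : ↥(Lv hσ s ⊓ Hw K m) → ↥B ⧸ Xl.subgroupOf B := fun h => QuotientGroup.mk
      ⟨⟨h.1, h.2.1⟩, Subgroup.mem_subgroupOf.2 ⟨1, one_mem _, h.1, h.2, (one_mul _).symm⟩⟩
    have hf : Function.Bijective f := by
      refine ⟨fun h h' e => ?_, fun z => ?_⟩
      · have hmem : (h : ↥(G1 K m))⁻¹ * h' ∈ Xs σ m s := by
          simpa [Xl, Subgroup.mem_subgroupOf] using QuotientGroup.eq.1 e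
        have h1 := pos_inf_diag hc (Subgroup.mem_subgroupOf.1 (Xs_le_U hσ s hmem))
          (mul_mem ((Hw K m).inv_mem h.2.2) h'.2.2 : (h : ↥(G1 K m))⁻¹ * h' ∈ Hw K m)
        exact Subtype.ext (inv_mul_eq_one.1 (Subtype.ext h1))
      · induction z using QuotientGroup.induction_on with | H x => ?_
        obtain ⟨h', a, ha, e⟩ := hsurj x
        refine ⟨h', QuotientGroup.eq.2 ?_⟩
        simp only [Xl, Subgroup.mem_subgroupOf]
        show (h' : ↥(G1 K m))⁻¹ * ((x : ↥(Lv hσ s)) : ↥(G1 K m)) ∈ Xs σ m s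
        rw [e, ← mul_assoc, show (h' : ↥(G1 K m))⁻¹ * a * h' =
          (h' : ↥(G1 K m))⁻¹ * a * ((h' : ↥(G1 K m))⁻¹)⁻¹ by rw [inv_inv]]
        exact Xs_norm hσ s _ ((Hw K m).inv_mem h'.2.2) a ha
    rw [Subgroup.relIndex, Subgroup.index, ← Nat.card_congr (Equiv.ofBijective f hf)] at h
    obtain ⟨h', hh'⟩ := exists_prime_orderOf_dvd_card' (G := ↥(Lv hσ s ⊓ Hw K m)) 2 h
    have hd : orderOf h' ∣ Fintype.card K - 1 := orderOf_dvd_of_pow_eq_one
      (Subtype.ext (by simpa using diag_pow_card hσ h'.2.2))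
    rw [hh'] at hd
    have hodd : Odd (Fintype.card K - 1) := Nat.Even.sub_odd Fintype.card_pos hq odd_one
    exact Nat.not_even_iff_odd.2 hodd (even_iff_two_dvd.2 hd)
  · cases s <;> simp only [cond_false, cond_true] at h <;>
      exact Nat.not_even_iff_odd.2 ((hq.pow_of_ne_zero (by omega)).add_one) (even_iff_two_dvd.2 h)

/-- the two Levi tori meet trivially -/
theorem Lv_inter {h : ↥(G1 K m)} (h0 : h ∈ Lv hσ false) (h1 : h ∈ Lv hσ true) (hh' : h ∈ Hw K m) :
    h = 1 := by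
  obtain ⟨P, Q, rfl⟩ := exists_diag hσ hh'
  have a := det_diag hσ h0
  have b := det_diag hσ h1
  simp only [exp_sums.1, exp_sums.2.1] at a
  simp only [exp_sums.2.2.1, exp_sums.2.2.2] at b
  obtain ⟨rfl, rfl⟩ := ep_two hσ a b det_nodes.2.2.2.2
  exact diag_one_eq hσ

/-- a torus element of the Levi subgroup fixing only the identity of the root group -/
theorem Lv_torus (hm : 1 ≤ m) (s : Bool) : ∃ h ∈ Lv hσ s ⊓ Hw K m, Fpf h (Xs σ m s) := by
  obtain ⟨t, ht⟩ := exists_unit hσ hm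
  cases s
  · refine ⟨hA hσ t, ⟨?_, hA_mem_H hσ t⟩, pair_fpf hσ ht⟩
    have hp : ∀ t, pg hσ true t ∈ Lv hσ false := fun t => Subgroup.mem_sup_left (pgv_pos_mem hσ t)
    have hp' : ∀ t, pg hσ false t ∈ Lv hσ false := fun t =>
      Subgroup.mem_sup_right ⟨pg hσ true t, pgv_pos_mem hσ t, ng_conj_pg hσ true t⟩
    exact mul_mem (mul_mem (mul_mem (hp _) (hp' _)) (hp _)) (mul_mem (mul_mem (hp _) (hp' _)) (hp _))
  · set T := hA hσ t
    have hT := hA_mem_H hσ t
    have hh : T * (hB hσ t)⁻¹ = T * ng hσ true * T⁻¹ * (ng hσ true)⁻¹ := by simp only [hB, T]; group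
    have hnorm : T * ng hσ true * T⁻¹ ∈ Lv hσ true := by
      have hle : Lv hσ true ≤ (Lv hσ true).comap (MulAut.conj T).toMonoidHom :=
        sup_le (fun x hx => Subgroup.mem_sup_left (Xs_norm hσ true T hT x hx))
          (fun y hy => Subgroup.mem_sup_right (Ys_norm hσ true T hT y hy))
      exact hle (ng_mem_Lv hσ true)
    refine ⟨T * (hB hσ t)⁻¹, Subgroup.mem_inf.2 ⟨hh ▸ mul_mem hnorm (inv_mem (ng_mem_Lv hσ true)),
      mul_mem hT (inv_mem (hB_mem_H hσ t))⟩, ?_⟩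
    intro z hz he
    obtain ⟨x, v, rfl⟩ := exists_qg hσ (Subgroup.mem_subgroupOf.1 hz)
    have hBinv : (hB hσ t)⁻¹ * qg hσ true x v * hB hσ t =
        qg hσ true ((t : K)⁻¹ * x) (((t : K)⁻¹) ^ (2 ^ m + 1) * v) := by
      have h := hB_qg hσ t true ((t : K)⁻¹ * x) (((t : K)⁻¹) ^ (2 ^ m + 1) * v)
      rw [cond_true, mul_inv_cancel_left₀ t.ne_zero, ← mul_assoc ((t : K) ^ (2 ^ m + 1)), ← mul_pow,
        mul_inv_cancel₀ t.ne_zero, one_pow, one_mul] at h
      rw [← h]; group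
    rw [show T * (hB hσ t)⁻¹ * qg hσ true x v * (T * (hB hσ t)⁻¹)⁻¹ =
      T * ((hB hσ t)⁻¹ * qg hσ true x v * hB hσ t) * T⁻¹ by group, hBinv, hA_qg, cond_true] at he
    obtain ⟨e1, e2⟩ := qg_inj hσ he
    rw [← mul_assoc] at e1 e2
    rw [← mul_pow] at e2
    have hne : (t : K)⁻¹ * (t : K)⁻¹ ≠ 1 := fun e => ht (sq_inj hσ (Units.ext (by
      have : (t : K) ^ 2 = 1 := by
        rw [← mul_inv, inv_eq_one] at e
        rw [sq]; exact e
      simpa [zpow_ofNat] using this)))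
    have hx0 : x = 0 := by
      by_contra hx'
      exact hne (mul_right_cancel₀ hx' (e1.trans (one_mul x).symm))
    have hv0 : v = 0 := by
      by_contra hv'
      exact hne (norm_one hσ (mul_right_cancel₀ hv' (e2.trans (one_mul v).symm)))
    rw [hx0, hv0, qg_zero]

end

end CfsgLib.ReeF4Schur
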