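import Cfsg.Agent.Lib.ReeF4Schur.Classes

/-!
2F4(q): commutation between the classes and fixed-point-free torus elements.
-/

set_option autoImplicit false
set_option linter.unusedSectionVars false
set_option maxRecDepth 4000

namespace CfsgLib.ReeF4Schur

open Cfsg.Lie CfsgLib.Chev CfsgLib.ReeF4 CfsgLib.ReeF4Out
open scoped commutatorElement

variable {K : Type*} [Field K] [Fintype K] {m : ℕ} {σ : MulAut ↥(chevF4.group K)}

/-- the roots of the classes from `k` on -/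
def tl (k : ℕ) : List ℕ := ((List.range 8).drop k).flatMap cl

theorem tl_spec : ∀ k : Fin 9, ∀ r : Fin 48, TRoot false k r ↔ (r : ℕ) ∈ tl k := by
  unfold TRoot KeepRoot tl; decide +kernel

theorem tail_terms : ∀ i : Fin 8, ∀ r ∈ cl i, ∀ s ∈ tl (i + 1),
    r < 48 ∧ s < 48 ∧ s ≠ r ∧ s ≠ chevF4.neg r ∧
      ∀ c ∈ chevF4.commTerms r s, c.1 < 48 ∧ c.1 ∈ tl (i + 1) := by
  unfold tl; decide +kernel

/-- root subgroups that commute in characteristic two -/
def quiet (r s : ℕ) : Prop :=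
  r < 48 ∧ s < 48 ∧ (r = s ∨ (s ≠ chevF4.neg r ∧
    ∀ c ∈ chevF4.commTerms r s, c.1 < 48 ∧ c.2.1 % 2 = 0))

instance (r s : ℕ) : Decidable (quiet r s) := by unfold quiet; infer_instance

theorem quiet_facts :
    ∀ p ∈ ([(0, 0), (2, 2), (4, 4), (1, 2), (2, 3), (2, 4), (3, 4)] : List (ℕ × ℕ)),
      ∀ r ∈ cl p.1, ∀ s ∈ cl p.2, quiet r s := by decide +kernel

theorem centre_quiet : ∀ r ∈ cl 3, ∀ s ∈ [44, 47], quiet r s := by decide +kernel

/-- the commutators of the classes 1 and 3 -/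
theorem mid_terms : ∀ r ∈ cl 1, ∀ s ∈ cl 3, r < 48 ∧ s < 48 ∧ s ≠ r ∧ s ≠ chevF4.neg r ∧
    ∀ c ∈ chevF4.commTerms r s, c.1 < 48 ∧ c.1 ∈ cl 2 := by decide +kernel

theorem pair_terms : ∀ p ∈ ([(34, 39, 44), (26, 45, 47)] : List (ℕ × ℕ × ℕ)),
    p.1 < 48 ∧ p.2.1 < 48 ∧ p.2.2 < 48 ∧ p.2.1 ≠ p.1 ∧ p.2.1 ≠ chevF4.neg p.1 ∧
      (chevF4.commTerms p.1 p.2.1).map (fun c => (c.1, c.2.1 % 2, c.2.2)) = [(p.2.2, 1, 1, 1)] := by
  decide +kernel

theorem single_quiet : ∀ p ∈ ([(42, 39), (42, 45), (34, 45), (26, 39), (26, 44), (44, 45)] : List (ℕ × ℕ)),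
    quiet p.1 p.2 := by decide +kernel

section
variable (hσ : IsSigma m σ)
include hσ

theorem X_quiet {r s : ℕ} (h : quiet r s) (t u : K) : Commute (X r t) (X s u) := by
  obtain ⟨hr, hs, h⟩ := h
  rcases eq_or_ne r s with rfl | hne
  · show X r t * X r u = X r u * X r t
    rw [X_add hσ hr, X_add hσ hr, add_comm]
  obtain ⟨h1, h2⟩ := h.resolve_left hne
  have e := elX_conj_elX hc hcomm (F := K) (show r < chevF4.nroots from hr)
    (show s < chevF4.nroots from hs) hne.symm h1 t u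
  have hw : wordGL chevF4 K (chevF4.commWord K r s (-t) u) = 1 := by
    rw [wordGL, ChevalleyDatum.commWord, List.map_map]
    refine List.prod_eq_one fun x hx => ?_
    obtain ⟨c, hc', rfl⟩ := List.mem_map.1 hx
    obtain ⟨hc1, hc2⟩ := h2 c hc'
    show elX chevF4 K c.1 _ = 1
    simp only [cast_even hσ hc2, zero_mul]
    exact X_zero' hσ hc1
  rw [hw, mul_one, mul_inv_eq_iff_eq_mul] at e
  exact e

theorem X_conj_mem {P : ℕ → Prop} {r s : ℕ} (hr : r < 48) (hs : s < 48) (h0 : s ≠ r)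
    (h1 : s ≠ chevF4.neg r) (hP : P s) (h2 : ∀ c ∈ chevF4.commTerms r s, c.1 < 48 ∧ P c.1) (t u : K) :
    X r t * X s u * (X r t)⁻¹ ∈ uGen chevF4 K P := by
  rw [elX_conj_elX hc hcomm (show r < chevF4.nroots from hr) (show s < chevF4.nroots from hs) h0 h1]
  refine mul_mem (elX_mem_uGen (show s < chevF4.nroots from hs) hP _) ?_
  rw [wordGL, ChevalleyDatum.commWord, List.map_map]
  refine Subgroup.list_prod_mem _ fun z hz => ?_
  obtain ⟨c, hc', rfl⟩ := List.mem_map.1 hz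
  exact elX_mem_uGen (h2 c hc').1 (h2 c hc').2 _

theorem X_pair {r s v : ℕ} (hp : (r, s, v) ∈ ([(34, 39, 44), (26, 45, 47)] : List (ℕ × ℕ × ℕ))) :
    X r (1 : K) * X s 1 * (X r (1 : K))⁻¹ = X s 1 * X v 1 := by
  obtain ⟨hr, hs, -, h0, h1, he'⟩ := pair_terms _ hp
  obtain ⟨⟨v', c, i, j⟩, he, e'⟩ := List.map_eq_singleton_iff.1 he'
  simp only [Prod.mk.injEq] at e'
  obtain ⟨rfl, hc2, rfl, rfl⟩ := e' 
  rw [elX_conj_elX hc hcomm (show r < chevF4.nroots from hr) (show s < chevF4.nroots from hs) h0 h1]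
  congr 1
  rw [wordGL, ChevalleyDatum.commWord, he]
  simp [cast_odd hσ hc2]

theorem uGen_commute {P Q : ℕ → Prop} (h : ∀ r, r < 48 → P r → ∀ s, s < 48 → Q s → quiet r s)
    {g g' : GL chevF4.Idx K} (hg : g ∈ uGen chevF4 K P) (hg' : g' ∈ uGen chevF4 K Q) :
    Commute g g' := by
  induction hg using Subgroup.closure_induction with
  | mem a ha =>
    induction hg' using Subgroup.closure_induction with
    | mem b hb =>
      obtain ⟨r, t, hr, hP, rfl⟩ := ha
      obtain ⟨s, u, hs, hQ, rfl⟩ := hb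
      exact X_quiet hσ (h r hr hP s hs hQ) t u
    | one => exact Commute.one_right _
    | mul _ _ _ _ h1 h2 => exact h1.mul_right h2
    | inv _ _ h => exact h.inv_right
  | one => exact Commute.one_left _
  | mul _ _ _ _ h1 h2 => exact h1.mul_left h2
  | inv _ _ h => exact h.inv_left

theorem tail_normal (i : Fin 8) {u g : GL chevF4.Idx K} (hu : u ∈ uGen chevF4 K (· ∈ cl i))
    (hg : g ∈ uGen chevF4 K (· ∈ tl (i + 1))) :
    u * g * u⁻¹ ∈ uGen chevF4 K (· ∈ tl (i + 1)) := by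
  induction hu using Subgroup.closure_induction generalizing g with
  | mem x hx =>
    obtain ⟨r, a, hr, hp, rfl⟩ := hx
    suffices hle : uGen chevF4 K (· ∈ tl (i + 1)) ≤
        (uGen chevF4 K (· ∈ tl (i + 1))).comap (MulAut.conj (elX chevF4 K r a)).toMonoidHom from
      hle hg
    refine uGen_le_iff.2 fun s hs hQ b => ?_
    obtain ⟨-, -, h0, h1, h2⟩ := tail_terms i r hp s hQ
    exact X_conj_mem hσ hr hs h0 h1 hQ h2 a b
  | one => simpa using hg
  | mul x y _ _ hx hy =>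
    rw [show x * y * g * (x * y)⁻¹ = x * (y * g * y⁻¹) * x⁻¹ by group]
    exact hx (hy hg)
  | inv x _ hx =>
    have hle : (uGen chevF4 K (· ∈ tl (i + 1))).map (MulAut.conj x).toMonoidHom ≤
        uGen chevF4 K (· ∈ tl (i + 1)) := by
      rintro _ ⟨z, hz, rfl⟩; exact hx hz
    obtain ⟨z, hz, e⟩ := (Subgroup.eq_of_le_of_card_ge hle
      (Subgroup.card_map_of_injective (MulAut.conj x).injective).ge).ge hg
    rw [← e]
    simpa [mul_assoc] using hz

theorem comm_mid {a b : GL chevF4.Idx K} (ha : a ∈ uGen chevF4 K (· ∈ cl 1))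
    (hb : b ∈ uGen chevF4 K (· ∈ cl 3)) : ⁅a, b⁆ ∈ uGen chevF4 K (· ∈ cl 2) := by
  have c1 : ∀ {x z : GL chevF4.Idx K}, x ∈ uGen chevF4 K (· ∈ cl 1) → z ∈ uGen chevF4 K (· ∈ cl 2) →
      Commute x z := fun hx hz =>
    uGen_commute hσ (fun r _ hr s _ hs => quiet_facts (1, 2) (by simp) r hr s hs) hx hz
  have c3 : ∀ {x z : GL chevF4.Idx K}, x ∈ uGen chevF4 K (· ∈ cl 3) → z ∈ uGen chevF4 K (· ∈ cl 2) →
      Commute x z := fun hx hz =>
    (uGen_commute hσ (fun r _ hr s _ hs => quiet_facts (2, 3) (by simp) r hr s hs) hz hx).symm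
  induction ha using Subgroup.closure_induction with
  | mem a ha =>
    have ham : a ∈ uGen chevF4 K (· ∈ cl 1) := Subgroup.subset_closure ha
    induction hb using Subgroup.closure_induction with
    | mem b hb =>
      obtain ⟨r, t, hr, hP, rfl⟩ := ha
      obtain ⟨s, u, hs, hQ, rfl⟩ := hb
      obtain ⟨-, -, h0, h1, h2⟩ := mid_terms r hP s hQ
      rw [commutatorElement_def,
        elX_conj_elX hc hcomm (show r < chevF4.nroots from hr) (show s < chevF4.nroots from hs) h0 h1]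
      have hw : wordGL chevF4 K (chevF4.commWord K r s (-t) u) ∈ uGen chevF4 K (· ∈ cl 2) := by
        rw [wordGL, ChevalleyDatum.commWord, List.map_map]
        refine Subgroup.list_prod_mem _ fun z hz => ?_
        obtain ⟨c, hc', rfl⟩ := List.mem_map.1 hz
        exact elX_mem_uGen (h2 c hc').1 (h2 c hc').2 _
      have hsm : X s u ∈ uGen chevF4 K (· ∈ cl 3) := elX_mem_uGen hs hQ _
      rw [(c3 hsm hw).eq, mul_inv_cancel_right]
      exact hw
    | one => rw [commutatorElement_one_right]; exact one_mem _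
    | mul y z hy hz h1 h2 =>
      rw [show ⁅a, y * z⁆ = ⁅a, y⁆ * (y * ⁅a, z⁆ * y⁻¹) by simp only [commutatorElement_def]; group,
        (c3 hy h2).eq, mul_inv_cancel_right]
      exact mul_mem h1 h2
    | inv y hy h =>
      rw [show ⁅a, y⁻¹⁆ = y⁻¹ * ⁅a, y⁆⁻¹ * y⁻¹⁻¹ by simp only [commutatorElement_def]; group,
        (c3 (inv_mem hy) (inv_mem h)).eq, mul_inv_cancel_right]
      exact inv_mem h
  | one => rw [commutatorElement_one_left]; exact one_mem _
  | mul x y hx hy h1 h2 =>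
    rw [show ⁅x * y, b⁆ = x * ⁅y, b⁆ * x⁻¹ * ⁅x, b⁆ by simp only [commutatorElement_def]; group,
      (c1 hx h2).eq, mul_inv_cancel_right]
    exact mul_mem h2 h1
  | inv x hx h =>
    rw [show ⁅x⁻¹, b⁆ = x⁻¹ * ⁅x, b⁆⁻¹ * x⁻¹⁻¹ by simp only [commutatorElement_def]; group,
      (c1 (inv_mem hx) (inv_mem h)).eq, mul_inv_cancel_right]
    exact inv_mem h

theorem eq_one_of_conj {P : ℕ → Prop} (hP : ClosedPos chevF4 tb P) {h g : GL chevF4.Idx K}
    (w : ℕ → K) (hw : ∀ r, r < 48 → P r → w r ≠ 1 ∧ ∀ x, h * X r x * h⁻¹ = X r (w r * x))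
    (hg : g ∈ uGen chevF4 K P) (he : h * g * h⁻¹ = g) : g = 1 := by
  obtain ⟨t, rfl⟩ := uGen_exists hc hcomm hP hg
  have key : ∀ L : List ℕ, (∀ r ∈ L, r < 48 ∧ P r) →
      h * uProd chevF4 K L t * h⁻¹ = uProd chevF4 K L (fun r => w r * t r) := by
    intro L hL
    induction L with
    | nil => simp [uProd]
    | cons a L ih =>
      simp only [List.forall_mem_cons] at hL
      simp only [uProd, List.map_cons, List.prod_cons] at ih ⊢
      rw [← ih hL.2, show elX chevF4 K a (w a * t a) = h * X a (t a) * h⁻¹ from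
        ((hw a hL.1.1 hL.1.2).2 _).symm]
      group
  have hmem : ∀ r ∈ rootsFrom chevF4 P 0, r < 48 ∧ P r := fun r hr => (mem_rootsFrom.1 hr).2
  rw [key _ hmem] at he
  have hinj := uProd_inj hc hP.1 0 he
  rw [uProd]
  refine List.prod_eq_one fun x hx => ?_
  obtain ⟨r, hr, rfl⟩ := List.mem_map.1 hx
  obtain ⟨hlt, hp⟩ := hmem r hr
  have h0 : t r = 0 := by
    have := hinj r hr
    by_contra hne
    exact (hw r hlt hp).1 (mul_right_cancel₀ hne (this.trans (one_mul _).symm))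
  show X r (t r) = 1
  rw [h0]
  exact X_zero' hσ hlt

end

end CfsgLib.ReeF4Schur
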