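import Cfsg.Agent.Lib.ReeF4Schur.Roots
import Cfsg.Agent.Lib.ReeF4Out.BN

/-!
2F4(q), q ≥ 8: in a central extension the unipotent group lifts isomorphically.
-/

set_option autoImplicit false
set_option linter.unusedSectionVars false
set_option maxRecDepth 4000

namespace CfsgLib.ReeF4Schur

open Cfsg.Lie CfsgLib.Chev CfsgLib.ReeF4 CfsgLib.ReeF4Out Subgroup
open scoped commutatorElement IsMulCommutative

universe u

variable {K : Type*} [Field K] [Fintype K] {m : ℕ} {σ : MulAut ↥(chevF4.group K)}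

/-- the subgroup of a list of roots -/
noncomputable abbrev Gs (σ : MulAut ↥(chevF4.group K)) (m : ℕ) (l : List ℕ) : Subgroup ↥(G1 K m) :=
  (V σ (fun r => r ∈ l)).subgroupOf (G1 K m)

/-- the centre of the root group of the quadruple -/
noncomputable def Zb (hσ : IsSigma m σ) : Subgroup ↥(G1 K m) where
  carrier := {g | ∃ u, g = qg hσ true 0 u}
  one_mem' := ⟨0, (qg_zero hσ true).symm⟩
  mul_mem' := by
    rintro _ _ ⟨u, rfl⟩ ⟨v, rfl⟩
    exact ⟨u + v, by rw [qg_mul]; simp⟩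
  inv_mem' := by
    rintro _ ⟨u, rfl⟩
    refine ⟨u, inv_eq_of_mul_eq_one_right ?_⟩
    rw [qg_mul, add_self hσ, add_self hσ]
    simp [qg_zero]

theorem base_lists : ∀ r : Fin 48, ((r : ℕ) ∈ cl 0 ↔ JRoot false r) ∧ ((r : ℕ) ∈ cl 7 ↔ JRoot true r) := by
  unfold JRoot InvRoot; decide +kernel

theorem word_sigs :
    sigs chevF4 tb (altW false 1) f4b = 26 ∧ sigs chevF4 tb (altW false 1) f4a = 34 ∧
    sigs chevF4 tb (altW false 1) f4aab = 42 ∧ sigs chevF4 tb (altW false 3) f4ab = 44 ∧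
    sigs chevF4 tb (altW false 3) f4aab = 47 ∧ sigs chevF4 tb (altW false 4) f4p1 = 39 ∧
    sigs chevF4 tb (altW false 4) f4p4 = 45 := by decide +kernel

section
variable (hσ : IsSigma m σ)
include hσ

omit hσ in
theorem torus_comm {a b : ↥(G1 K m)} (ha : a ∈ Hw K m) (hb : b ∈ Hw K m) : a * b = b * a := by
  obtain ⟨c, e⟩ := (mem_diagonal hc).1 (Subgroup.mem_subgroupOf.1 ha)
  obtain ⟨d, e'⟩ := (mem_diagonal hc).1 (Subgroup.mem_subgroupOf.1 hb)
  apply Subtype.ext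
  rw [Subgroup.coe_mul, Subgroup.coe_mul, ← e, ← e', ← map_mul, ← map_mul, ← map_mul, ← map_mul,
    mul_comm]

theorem norms_Gs (l : List ℕ) : Norms (Hw K m) (Gs σ m l) := fun t ht x hx => by
  obtain ⟨h1, h2⟩ := Subgroup.mem_inf.1 (Subgroup.mem_subgroupOf.1 hx)
  exact Subgroup.mem_inf.2 ⟨diag_conj_mem hc _ (Subgroup.mem_subgroupOf.1 ht) h1,
    mul_mem (mul_mem (G1_le_fix hσ t.2) h2) (inv_mem (G1_le_fix hσ t.2))⟩

theorem mem_Gs {l : List ℕ} {x : ↥(G1 K m)} :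
    x ∈ Gs σ m l ↔ (x : GL chevF4.Idx K) ∈ uGen chevF4 K (fun r => r ∈ l) :=
  ⟨fun h => (Subgroup.mem_inf.1 h).1, fun h => Subgroup.mem_inf.2 ⟨h, G1_le_fix hσ x.2⟩⟩

theorem Gs_class (k : Fin 8) : Gs σ m (cl k) = (V σ (SRoot false k)).subgroupOf (G1 K m) := by
  rw [Gs, V_congr (Q := SRoot false k) fun r hr => (cl_spec k ⟨r, hr⟩).symm]

theorem Gs_tail (k : Fin 9) : Gs σ m (tl k) = (V σ (TRoot false k)).subgroupOf (G1 K m) := by
  rw [Gs, V_congr (Q := TRoot false k) fun r hr => (tl_spec k ⟨r, hr⟩).symm]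

theorem Gs_zero : Gs σ m (cl 0) = Xs σ m false := by
  rw [Gs, V_congr (Q := JRoot false) fun r hr => (base_lists ⟨r, hr⟩).1]

theorem Gs_seven : Gs σ m (cl 7) = Xs σ m true := by
  rw [Gs, V_congr (Q := JRoot true) fun r hr => (base_lists ⟨r, hr⟩).2]

/-- the monomial element moving a node class to the class `k` -/
noncomputable def nk (k : ℕ) : ↥(G1 K m) := ⟨nProd chevF4 K (altW false k), nu_mem hσ false k⟩

theorem nk_mem (k : ℕ) : nk hσ k ∈ Nw K m := nProd_mem_monomial hc _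

theorem nk_X (k : ℕ) {r : ℕ} (hr : r < 48) (t : K) :
    (nk hσ k : GL chevF4.Idx K) * X r t * (nk hσ k : GL chevF4.Idx K)⁻¹ =
      X (sigs chevF4 tb (altW false k) r) t := nProd_conj hσ _ hr t

theorem class_down (k : Fin 8) {x : ↥(G1 K m)} (hx : x ∈ Gs σ m (cl k)) :
    (nk hσ k)⁻¹ * x * nk hσ k ∈ Xs σ m (sideAt false k) := by
  rw [Gs_class hσ] at hx
  obtain ⟨h1, h2⟩ := Subgroup.mem_inf.1 (Subgroup.mem_subgroupOf.1 hx)
  have hn : nProd chevF4 K (altW false k) ∈ fixF σ := nu_fixed hσ false k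
  exact Subgroup.mem_inf.2 ⟨conj_nProd_inv_uGen _ (fun r hr hS => (sroot_iff k.2 hr).1 hS) h1,
    mul_mem (mul_mem (inv_mem hn) h2) hn⟩

theorem class_up (k : Fin 8) {x : ↥(G1 K m)} (hx : x ∈ Xs σ m (sideAt false k)) :
    nk hσ k * x * (nk hσ k)⁻¹ ∈ Gs σ m (cl k) := by
  rw [Gs_class hσ]
  obtain ⟨h1, h2⟩ := Subgroup.mem_inf.1 (Subgroup.mem_subgroupOf.1 hx)
  have hn : nProd chevF4 K (altW false k) ∈ fixF σ := nu_fixed hσ false k
  refine Subgroup.mem_inf.2 ⟨conj_nProd_uGen _ (fun r hr hJ => ?_) h1,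
    mul_mem (mul_mem hn h2) (inv_mem hn)⟩
  rw [sroot_iff k.2 (sigs_lt hc _ hr), (altW_commute false ⟨k, by omega⟩ ⟨r, hr⟩).2]
  exact hJ

theorem tt_comm (i : Fin 8) (u : Kˣ) {x : ↥(G1 K m)} (hx : x ∈ Gs σ m (cl i)) :
    tt hσ i u * x = x * tt hσ i u := by
  refine Subtype.ext ?_
  have h := (Subgroup.mem_inf.1 (Subgroup.mem_subgroupOf.1 hx)).1
  show (tt hσ i u : GL chevF4.Idx K) * (x : GL chevF4.Idx K) = x * tt hσ i u
  generalize (x : GL chevF4.Idx K) = g at h ⊢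
  induction h using Subgroup.closure_induction with
  | mem y hy =>
    obtain ⟨r, t, -, hr, rfl⟩ := hy
    exact mul_inv_eq_iff_eq_mul.1 ((tt_fix hσ u hr rfl).2 t)
  | one => simp
  | mul a b _ _ ha hb => rw [← mul_assoc, ha, mul_assoc, hb, mul_assoc]
  | inv a _ ha => exact (Commute.inv_right (show Commute _ a from ha)).eq

theorem tt_fpf {i j : Fin 8} (hij : i ≠ j) {u : Kˣ} (hu : u ≠ 1) :
    Fpf (tt hσ i u) (Gs σ m (cl j)) := by
  intro x hx he
  rw [Gs_class hσ] at hx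
  have hmem : ∀ r, r < 48 → SRoot false j r → r ∈ cl j := fun r hr h => (cl_spec j ⟨r, hr⟩).1 h
  classical
  refine Subtype.ext (eq_one_of_conj hσ (P := SRoot false j) (closedPos_sroot false j)
    (h := (tt hσ i u : GL chevF4.Idx K))
    (fun r => if h : r < 48 then ((tt_X hσ i u h).choose : K) else 0) (fun r hr hP => ?_)
    (Subgroup.mem_inf.1 (Subgroup.mem_subgroupOf.1 hx)).1 (congrArg Subtype.val he))
  simp only [dif_pos hr]
  obtain ⟨h1, h2⟩ := (tt_X hσ i u hr).choose_spec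
  refine ⟨fun e => hu ?_, h2⟩
  have hw : (tt_X hσ i u hr).choose = 1 := Units.ext e
  rw [hw, one_zpow] at h1
  exact ep_eq_one hσ ((det_facts i j r (hmem r hr hP)).2 hij).1 h1.symm

theorem exists_unit (hm : 1 ≤ m) : ∃ u : Kˣ, u ≠ 1 := by
  obtain ⟨x, hx⟩ := exists_not_prime hσ hm
  have h0 : x ≠ 0 := fun e => hx (by simp [e])
  exact ⟨Units.mk0 x h0, fun e => hx (by
    have : x = 1 := congrArg Units.val e
    simp [this])⟩

theorem four_lt (hm : 1 ≤ m) : 4 < Fintype.card K := by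
  rw [hσ.card]
  have : 2 ^ 3 ≤ 2 ^ (2 * m + 1) := Nat.pow_le_pow_right two_pos (by omega)
  omega

theorem hB_mem_H (t : Kˣ) : hB hσ t ∈ Hw K m :=
  N_conj_H hσ (ng_mem_N hσ true) (hA_mem_H hσ t)

theorem pair_fpf {t : Kˣ} (ht : t ≠ 1) : Fpf (hA hσ t) (Xs σ m false) := by
  intro x hx he
  obtain ⟨a, rfl⟩ := exists_pg hσ (Subgroup.mem_subgroupOf.1 hx)
  rw [hA_pg, cond_true, zpow_ofNat] at he
  have h : ((t : K) ^ 2 - 1) * a = 0 := by linear_combination pg_inj hσ he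
  rcases mul_eq_zero.1 h with e | e
  · exact absurd (sq_inj hσ (Units.ext (by simpa [zpow_ofNat, sub_eq_zero] using e))) ht
  · rw [e, pg_zero]

theorem quad_fpf {t : Kˣ} (ht : t ≠ 1) : Fpf (hB hσ t) (Xs σ m true) := by
  intro z hz he
  obtain ⟨x, u, rfl⟩ := exists_qg hσ (Subgroup.mem_subgroupOf.1 hz)
  rw [hB_qg, cond_true] at he
  obtain ⟨e1, e2⟩ := qg_inj hσ he
  have hx : x = 0 := (mul_eq_zero.1 (show ((t : K) - 1) * x = 0 by linear_combination e1)).resolve_left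
    fun e => ht (Units.ext (sub_eq_zero.1 e))
  have hu : u = 0 := (mul_eq_zero.1
    (show ((t : K) ^ (2 ^ m + 1) - 1) * u = 0 by linear_combination e2)).resolve_left
    fun e => ht (Units.ext (norm_one hσ (sub_eq_zero.1 e)))
  rw [hx, hu, qg_zero]

theorem Zb_le : Zb hσ ≤ Xs σ m true := fun _ ⟨u, e⟩ => e ▸ qgv_pos_mem hσ 0 u

theorem norms_Zb : Norms (Hw K m) (Zb hσ) := by
  rintro t ht _ ⟨u, rfl⟩
  obtain ⟨v, hv⟩ : ∃ v : K, v ^ (2 ^ m + 1) = u := by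
    rcases eq_or_ne u 0 with rfl | hu
    · exact ⟨0, zero_pow (Nat.succ_ne_zero _)⟩
    · obtain ⟨v, hv⟩ := norm_surj hσ (Units.mk0 u hu)
      exact ⟨v, by simpa using congrArg Units.val hv⟩
  have hm' : t * qg hσ true v 0 * t⁻¹ ∈ Xs σ m true := by
    have := norms_Gs hσ (cl 7) t ht (qg hσ true v 0) (by rw [Gs_seven hσ]; exact qgv_pos_mem hσ v 0)
    rwa [Gs_seven hσ] at this
  obtain ⟨a, b, hab⟩ := exists_qg hσ (Subgroup.mem_subgroupOf.1 hm')
  refine ⟨a ^ (2 ^ m + 1), ?_⟩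
  rw [← hv, ← qg_sq hσ true v 0, ← qg_sq hσ true a b, ← hab]
  group

end

section
variable (hσ : IsSigma m σ) (hm : 1 ≤ m) {Γ : Type u} [Group Γ]
  {φ : Γ →* ↥(G1 K m)} (hs : Function.Surjective φ) (hk' : φ.ker ≤ center Γ)
include hσ hm hs hk'

/-- the commutators of lifts over a central subgroup `Z` lie in the lift of `Z` -/
theorem omega_trivial {X Z : Subgroup ↥(G1 K m)} (hGZ : Good φ (Hw K m) Z) (hZ : Norms (Hw K m) Z)
    (hZs : ∀ z ∈ Z, ∃ w ∈ lift φ (Hw K m) Z, φ w = z) (hZX : Z ≤ X)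
    (hcent : ∀ a b, φ a ∈ X → φ b ∈ Z → a * b = b * a) (p : K → ↥(G1 K m)) (hp : ∀ x, p x ∈ X)
    (hadd : ∀ x y, ∃ z ∈ Z, p x * p y = p (x + y) * z)
    (hsurj : ∀ g ∈ X, ∃ x, ∃ z ∈ Z, g = p x * z) (hcomm : ∀ x y, ⁅p x, p y⁆ ∈ Z)
    (hscale : ∀ k : K, k ≠ 0 → ∃ t ∈ Hw K m, ∀ x, t * p x * t⁻¹ = p (k * x))
    {a b : Γ} (ha : φ a ∈ X) (hb : φ b ∈ X) : ⁅a, b⁆ ∈ lift φ (Hw K m) Z := by
  classical
  choose M hM using fun x => hs (p x)
  have hMX : ∀ x, φ (M x) ∈ X := fun x => by rw [hM]; exact hp x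
  have hred : ∀ g, φ g ∈ X → ∃ x c, φ c ∈ Z ∧ g = M x * c := fun g hg => by
    obtain ⟨x, z, hz, e⟩ := hsurj _ hg
    refine ⟨x, (M x)⁻¹ * g, ?_, (mul_inv_cancel_left _ _).symm⟩
    rw [map_mul, map_inv, hM, e, inv_mul_cancel_left]
    exact hz
  have hom : ∀ g h c d, φ g ∈ X → φ h ∈ X → φ c ∈ Z → φ d ∈ Z → ⁅g * c, h * d⁆ = ⁅g, h⁆ := by
    intro g h c d hg hh hk'' hd
    have e1 : c * h = h * c := (hcent h c hh hk'').symm
    have e2 : d * g = g * d := (hcent g d hg hd).symm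
    have e3 : c * d = d * c := hcent c d (hZX hk'') hd
    calc ⁅g * c, h * d⁆ = g * (c * h) * d * c⁻¹ * g⁻¹ * d⁻¹ * h⁻¹ := by
          simp only [commutatorElement_def]; group
      _ = g * h * (c * d) * c⁻¹ * g⁻¹ * d⁻¹ * h⁻¹ := by rw [e1]; group
      _ = g * h * (d * g⁻¹) * d⁻¹ * h⁻¹ := by rw [e3]; group
      _ = ⁅g, h⁆ := by
        rw [(show Commute d g from e2).inv_right.eq, commutatorElement_def]; group
  choose l hl hle using fun x y => hZs _ (hcomm x y)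
  have hlZ : ∀ x y, φ (l x y) ∈ Z := fun x y => sigma_mem hZ (hl x y)
  have hδ : ∀ x y, ⁅M x, M y⁆ * (l x y)⁻¹ ∈ center Γ := fun x y => hk' (by
    rw [MonoidHom.mem_ker, map_mul, map_inv, map_commutatorElement, hM, hM, hle, mul_inv_cancel])
  let β : K → K → center Γ := fun x y => ⟨_, hδ x y⟩
  have hωX : ∀ x y, φ ⁅M x, M y⁆ ∈ Z := fun x y => by
    rw [map_commutatorElement, hM, hM]; exact hcomm x y
  have hωl : ∀ x x' y, ⁅M (x + x'), M y⁆ = ⁅M x, M y⁆ * ⁅M x', M y⁆ := by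
    intro x x' y
    obtain ⟨z, hz, e⟩ := hadd x x'
    have hz' : φ ((M (x + x'))⁻¹ * (M x * M x')) ∈ Z := by
      rw [map_mul, map_inv, map_mul, hM, hM, hM, e, inv_mul_cancel_left]; exact hz
    calc ⁅M (x + x'), M y⁆ = ⁅M x * M x', M y⁆ := by
          have := hom (M (x + x')) (M y) _ 1 (hMX _) (hMX _) hz' (by simp)
          rw [mul_inv_cancel_left, mul_one] at this
          exact this.symm
      _ = M x * ⁅M x', M y⁆ * (M x)⁻¹ * ⁅M x, M y⁆ := by simp only [commutatorElement_def]; group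
      _ = _ := by
        rw [hcent _ _ (hMX x) (hωX x' y), mul_inv_cancel_right,
          hcent _ _ (hZX (hωX x' y)) (hωX x y)]
  have hωr : ∀ x y y', ⁅M x, M (y + y')⁆ = ⁅M x, M y⁆ * ⁅M x, M y'⁆ := by
    intro x y y'
    rw [← inv_inj, commutatorElement_inv, _root_.mul_inv_rev, commutatorElement_inv, commutatorElement_inv,
      hωl, hcent _ _ (hZX (hωX y' x)) (hωX y x)]
  have hll : ∀ x x' y, l (x + x') y = l x y * l x' y := fun x x' y =>
    hGZ.eq (hl _ _) (mul_mem (hl _ _) (hl _ _)) (by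
      rw [map_mul, hle, hle, hle]
      have := congrArg φ (hωl x x' y)
      simpa [map_commutatorElement, hM] using this)
  have hlr : ∀ x y y', l x (y + y') = l x y * l x y' := fun x y y' =>
    hGZ.eq (hl _ _) (mul_mem (hl _ _) (hl _ _)) (by
      rw [map_mul, hle, hle, hle]
      have := congrArg φ (hωr x y y')
      simpa [map_commutatorElement, hM] using this)
  have split : ∀ A B C D : Γ, A * C⁻¹ ∈ center Γ → φ C ∈ Z → φ D ∈ Z → φ B ∈ Z → φ A ∈ Z →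
      A * B * (C * D)⁻¹ = A * C⁻¹ * (B * D⁻¹) := by
    intro A B C D _ hC hD hB _
    have e := hcent C⁻¹ (B * D⁻¹) (hZX (by rw [map_inv]; exact inv_mem hC))
      (by rw [map_mul, map_inv]; exact mul_mem hB (inv_mem hD))
    calc A * B * (C * D)⁻¹ = A * ((B * D⁻¹) * C⁻¹) := by group
      _ = _ := by rw [← e]; group
  haveI : CharP K 2 := CfsgLib.ReeF4.charP_two hσ.card
  have hβ1 : ∀ x y, β x y = 1 := eq_one_weight_one (four_lt hσ hm) β
    (fun x x' y => Subtype.ext (by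
      show ⁅M (x + x'), M y⁆ * (l (x + x') y)⁻¹ =
        ⁅M x, M y⁆ * (l x y)⁻¹ * (⁅M x', M y⁆ * (l x' y)⁻¹)
      rw [hωl, hll]
      exact split _ _ _ _ (hδ x y) (hlZ _ _) (hlZ _ _) (hωX _ _) (hωX _ _)))
    (fun x y y' => Subtype.ext (by
      show ⁅M x, M (y + y')⁆ * (l x (y + y'))⁻¹ =
        ⁅M x, M y⁆ * (l x y)⁻¹ * (⁅M x, M y'⁆ * (l x y')⁻¹)
      rw [hωr, hlr]
      exact split _ _ _ _ (hδ x y) (hlZ _ _) (hlZ _ _) (hωX _ _) (hωX _ _)))
    (fun k hk x y => Subtype.ext (by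
      obtain ⟨t, ht, htp⟩ := hscale k hk
      obtain ⟨T, rfl⟩ := hs t
      have e1 : ∀ z, φ (T * M z * T⁻¹) = φ (M (k * z)) := fun z => by
        rw [map_mul, map_mul, map_inv, hM, hM, htp]
      have e2 : l (k * x) (k * y) = T * l x y * T⁻¹ :=
        hGZ.eq (hl _ _) (conj_lift_T hZ ht (hl _ _)) (by
          rw [hle, map_mul, map_mul, map_inv, hle, ← htp, ← htp, conjugate_commutatorElement])
      show ⁅M (k * x), M (k * y)⁆ * _ = ⁅M x, M y⁆ * (l x y)⁻¹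
      rw [e2, ← SchurTrivial.comm_congr hk' (e1 x) (e1 y), ← conjugate_commutatorElement]
      calc T * ⁅M x, M y⁆ * T⁻¹ * (T * l x y * T⁻¹)⁻¹
          = T * (⁅M x, M y⁆ * (l x y)⁻¹) * T⁻¹ := by group
        _ = _ := by rw [mem_center_iff.1 (hδ x y) T, mul_inv_cancel_right]))
  obtain ⟨x, c, hk'', rfl⟩ := hred a ha
  obtain ⟨y, d, hd, rfl⟩ := hred b hb
  rw [hom _ _ _ _ (hMX x) (hMX y) hk'' hd]
  have := congrArg Subtype.val (hβ1 x y)
  rw [show ⁅M x, M y⁆ = l x y from mul_inv_eq_one.1 this]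
  exact hl x y

theorem finite_base : Finite ↥(G1 K m) := inferInstance

theorem good_pair : Good φ (Hw K m) (Xs σ m false) := by
  obtain ⟨u, hu⟩ := exists_unit hσ hm
  have hN : Norms (Hw K m) (Xs σ m false) := by rw [← Gs_zero hσ]; exact norms_Gs hσ _
  refine good_two hs hk' (hA_mem_H hσ u) (fun s hs' => torus_comm hs' (hA_mem_H hσ u)) hN
    (fun t _ x hx => by simp [(mem_bot).1 hx]) bot_le (good_bot hk')
    (fun a b _ hb => mem_center_iff.1 (hk' (mem_bot.1 hb)) a) ?_ (pair_fpf hσ hu) ?_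
  · intro a b ha hb
    refine omega_trivial hσ hm hs hk' (good_bot hk') (fun t _ x hx => by simp [(mem_bot).1 hx])
      (fun z hz => ⟨1, one_mem _, by simp [(mem_bot).1 hz]⟩) bot_le
      (fun a b _ hb => mem_center_iff.1 (hk' (mem_bot.1 hb)) a) (pg hσ true) (pgv_pos_mem hσ)
      (fun x y => ⟨1, rfl, by rw [pg_mul, mul_one]⟩)
      (fun g hg => by
        obtain ⟨x, rfl⟩ := exists_pg hσ (Subgroup.mem_subgroupOf.1 hg)
        exact ⟨x, 1, rfl, (mul_one _).symm⟩)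
      (fun x y => mem_bot.2 (commutatorElement_eq_one_iff_mul_comm.2 (by
        rw [pg_mul, pg_mul, add_comm])))
      (fun k hk => by
        obtain ⟨t, ht⟩ := sq_surj hσ (Units.mk0 k hk)
        refine ⟨hA hσ t, hA_mem_H hσ t, fun x => ?_⟩
        rw [hA_pg, cond_true, zpow_ofNat, ht, Units.val_mk0]) ha hb
  · intro x hx he
    refine mem_bot.2 (pair_fpf hσ hu x hx ?_)
    rw [mem_bot, commutatorElement_def, mul_inv_eq_one] at he
    exact he

theorem good_class_of {k : Fin 8} (h : Good φ (Hw K m) (Xs σ m (sideAt false k))) :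
    Good φ (Hw K m) (Gs σ m (cl k)) := by
  obtain ⟨g, hg⟩ := hs (nk hσ k)
  refine good_conj h (g := g⁻¹) (fun t ht => ?_) (fun y hy => ?_)
  · rw [map_inv, hg, inv_inv]
    simpa using N_conj_H hσ (inv_mem (nk_mem hσ k)) ht
  · rw [map_inv, hg, inv_inv]
    exact class_down hσ k hy

theorem exists_lift_class (k : Fin 8) {y : ↥(G1 K m)} (hy : y ∈ Gs σ m (cl k)) :
    ∃ w ∈ lift φ (Hw K m) (Gs σ m (cl k)), φ w = y := by
  obtain ⟨u, hu⟩ := exists_unit hσ hm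
  obtain ⟨i, hi⟩ : ∃ i : Fin 8, i ≠ k := exists_ne k
  exact exists_lift hs (tt_mem hσ i u) (norms_Gs hσ _) (tt_fpf hσ hi hu) hy

theorem centre_three {a b : Γ} (ha : φ a ∈ Gs σ m (cl 3))
    (hb : φ b = nk hσ 3 * qg hσ true 0 1 * (nk hσ 3)⁻¹) : a * b = b * a := by
  obtain ⟨u, hu⟩ := exists_unit hσ hm
  obtain ⟨s1, s2, s3, s4, s5, s6, s7⟩ := word_sigs
  have z : (2 : ℕ) ^ m ≠ 0 := pow_ne_zero _ two_ne_zero
  set c1 := nk hσ 1 * qg hσ true 1 0 * (nk hσ 1)⁻¹ with hc1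
  set c4 := nk hσ 4 * pg hσ true 1 * (nk hσ 4)⁻¹ with hc4
  obtain ⟨q1, q2, q3, q4⟩ := qR_facts true
  obtain ⟨p1, p2⟩ := pR_facts true
  simp only [qR, pR] at q1 q2 q3 q4 p1 p2
  have conj4 : ∀ (n : GL chevF4.Idx K) a b e f, n * (a * b * e * f) * n⁻¹ =
      n * a * n⁻¹ * (n * b * n⁻¹) * (n * e * n⁻¹) * (n * f * n⁻¹) := fun n a b e f => by group
  have e1 : (c1 : GL chevF4.Idx K) = X 26 1 * X 34 1 * X 42 1 := by
    rw [hc1, Subgroup.coe_mul, Subgroup.coe_mul, Subgroup.coe_inv, coe_qg, conj4]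
    simp only [qR]
    rw [nk_X hσ _ q2, nk_X hσ _ q1, nk_X hσ _ q3, nk_X hσ _ q4, s1, s2, s3]
    simp [X_zero' hσ (sigs_lt hc _ (show f4ab < chevF4.nroots from q3)), z]
  have e4 : (c4 : GL chevF4.Idx K) = X 39 1 * X 45 1 := by
    rw [hc4, Subgroup.coe_mul, Subgroup.coe_mul, Subgroup.coe_inv, coe_pg]
    simp only [pR]
    rw [show ∀ n a b : GL chevF4.Idx K, n * (a * b) * n⁻¹ = n * a * n⁻¹ * (n * b * n⁻¹) from
      fun n a b => by group, nk_X hσ _ p1, nk_X hσ _ p2, s6, s7, one_pow]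
  have e3 : ((nk hσ 3 * qg hσ true 0 1 * (nk hσ 3)⁻¹ : ↥(G1 K m)) : GL chevF4.Idx K) =
      X 44 1 * X 47 1 := by
    rw [Subgroup.coe_mul, Subgroup.coe_mul, Subgroup.coe_inv, coe_qg, conj4]
    simp only [qR]
    rw [nk_X hσ _ q2, nk_X hσ _ q1, nk_X hσ _ q3, nk_X hσ _ q4, s4, s5]
    simp [X_zero' hσ (sigs_lt hc _ (show f4b < chevF4.nroots from q2)),
      X_zero' hσ (sigs_lt hc _ (show f4a < chevF4.nroots from q1)), z]
  have hq : ∀ {r s : ℕ}, (r, s) ∈ ([(42, 39), (42, 45), (34, 45), (26, 39), (26, 44), (44, 45)] : List (ℕ × ℕ)) →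
      X r (1 : K) * X s 1 = X s 1 * X r 1 := fun h => (X_quiet hσ (single_quiet _ h) _ _).eq
  have he : ⁅c1, c4⁆ = nk hσ 3 * qg hσ true 0 1 * (nk hσ 3)⁻¹ := by
    refine Subtype.ext ?_
    rw [e3, commutatorElement_def, Subgroup.coe_mul, Subgroup.coe_mul, Subgroup.coe_mul,
      Subgroup.coe_inv, Subgroup.coe_inv, e1, e4, mul_inv_eq_iff_eq_mul]
    have k42 : X 42 (1 : K) * (X 39 1 * X 45 1) * (X 42 1)⁻¹ = X 39 1 * X 45 1 := by
      rw [← mul_assoc, hq (by simp), mul_assoc (X 39 1), hq (by simp), ← mul_assoc, mul_inv_cancel_right]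
    have k34 : X 34 (1 : K) * (X 39 1 * X 45 1) * (X 34 1)⁻¹ = X 39 1 * X 44 1 * X 45 1 := by
      rw [← X_pair hσ (show (34, 39, 44) ∈ [(34, 39, 44), (26, 45, 47)] by simp)]
      calc X 34 (1 : K) * (X 39 1 * X 45 1) * (X 34 1)⁻¹
          = X 34 1 * X 39 1 * (X 34 1)⁻¹ * ((X 34 1 * X 45 1) * (X 34 1)⁻¹) := by group
        _ = _ := by rw [hq (r := 34) (s := 45) (by simp), mul_inv_cancel_right]
    have k26 : X 26 (1 : K) * (X 39 1 * X 44 1 * X 45 1) * (X 26 1)⁻¹ =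
        X 39 1 * X 44 1 * (X 45 1 * X 47 1) := by
      rw [← X_pair hσ (show (26, 45, 47) ∈ [(34, 39, 44), (26, 45, 47)] by simp)]
      have h1 : Commute (X 26 (1 : K)) (X 39 1 * X 44 1) :=
        (X_quiet hσ (single_quiet (26, 39) (by simp)) _ _).mul_right
          (X_quiet hσ (single_quiet (26, 44) (by simp)) _ _)
      rw [← mul_assoc (X 26 1), h1.eq]
      group
    calc X 26 (1 : K) * X 34 1 * X 42 1 * (X 39 1 * X 45 1) * (X 26 1 * X 34 1 * X 42 1)⁻¹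
        = X 26 1 * (X 34 1 * (X 42 1 * (X 39 1 * X 45 1) * (X 42 1)⁻¹) * (X 34 1)⁻¹) * (X 26 1)⁻¹ := by
          group
      _ = X 39 1 * X 44 1 * (X 45 1 * X 47 1) := by rw [k42, k34, k26]
      _ = X 44 1 * X 47 1 * (X 39 1 * X 45 1) := by
        have a1 : Commute (X 44 (1 : K) * X 47 1) (X 39 1 * X 45 1) := by
          refine uGen_commute hσ (P := (· ∈ cl 3)) (Q := (· ∈ cl 4))
            (fun r _ hr s _ hs => quiet_facts (3, 4) (by simp) r hr s hs) ?_ ?_ <;>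
          exact mul_mem (elX_mem_uGen (by decide) (by simp [cl]) _) (elX_mem_uGen (by decide) (by simp [cl]) _)
        rw [a1.eq, mul_assoc, mul_assoc, ← mul_assoc (X 44 1) (X 45 1), hq (by simp)]
        simp only [mul_assoc]
  have hcl1 : c1 ∈ Gs σ m (cl 1) := class_up hσ 1 (qgv_pos_mem hσ 1 0)
  have hcl4 : c4 ∈ Gs σ m (cl 4) := class_up hσ 4 (pgv_pos_mem hσ 1)
  obtain ⟨A, hA'⟩ := hs c1
  obtain ⟨B, hB4, hB'⟩ := exists_lift_class hσ hm hs hk' 4 hcl4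
  have hD : φ (A⁻¹ * (a * A * a⁻¹)) ∈ Gs σ m (cl 2) := by
    have h1 := comm_mid hσ ((mem_Gs hσ).1 (inv_mem hcl1)) ((mem_Gs hσ).1 ha)
    rw [mem_Gs hσ, map_mul, map_mul, map_mul, map_inv, map_inv, hA']
    rw [show ((c1⁻¹ * (φ a * c1 * (φ a)⁻¹) : ↥(G1 K m)) : GL chevF4.Idx K) =
      ⁅((c1⁻¹ : ↥(G1 K m)) : GL chevF4.Idx K), (φ a : GL chevF4.Idx K)⁆ by
        simp [commutatorElement_def, mul_assoc]]
    exact h1
  have hAB : φ ⁅A, B⁆ = φ b := by rw [map_commutatorElement, hA', hB', he, hb]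
  have key : a * ⁅A, B⁆ * a⁻¹ = ⁅A, B⁆ := by
    have hcm : φ a * φ B = φ B * φ a := Subtype.ext
      (uGen_commute hσ (fun r _ hr s _ hs => quiet_facts (3, 4) (by simp) r hr s hs)
        ((mem_Gs hσ).1 ha) (hB' ▸ (mem_Gs hσ).1 hcl4)).eq
    set D := A⁻¹ * (a * A * a⁻¹) with hDdef
    have hBD : B * D = D * B := commute_lift hs hk' (tt_mem hσ 4 u)
      (good_class_of hσ hm hs hk' (k := 4) (good_pair hσ hm hs hk')) (norms_Gs hσ _) (norms_Gs hσ _)
      (fun x hx => tt_comm hσ 4 u hx) (tt_fpf hσ (show (4 : Fin 8) ≠ 2 by decide) hu)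
      (fun x hx y hy => Subtype.ext (uGen_commute hσ
        (fun r _ hr s _ hs => quiet_facts (2, 4) (by simp) r hr s hs)
        ((mem_Gs hσ).1 hy) ((mem_Gs hσ).1 hx)).eq.symm) hB4 hD
    calc a * ⁅A, B⁆ * a⁻¹ = ⁅A * D, a * B * a⁻¹⁆ := by
          rw [conjugate_commutatorElement, hDdef, mul_inv_cancel_left]
      _ = ⁅A * D, B⁆ := SchurTrivial.comm_congr hk' rfl (by
          rw [map_mul, map_mul, map_inv, hcm, mul_inv_cancel_right])
      _ = A * (D * B * D⁻¹ * B⁻¹) * A⁻¹ * ⁅A, B⁆ := by simp only [commutatorElement_def]; group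
      _ = ⁅A, B⁆ := by rw [← hBD]; group
  have hz : ⁅A, B⁆⁻¹ * b ∈ center Γ := hk' (by
    rw [MonoidHom.mem_ker, map_mul, map_inv, hAB, inv_mul_cancel])
  calc a * b = a * ⁅A, B⁆ * a⁻¹ * (a * (⁅A, B⁆⁻¹ * b)) := by group
    _ = ⁅A, B⁆ * ((⁅A, B⁆⁻¹ * b) * a) := by rw [key, mem_center_iff.1 hz a]
    _ = b * a := by group

theorem centre_base {a b : Γ} (ha : φ a ∈ Xs σ m true) (hb : φ b ∈ Zb hσ) : a * b = b * a := by
  obtain ⟨g, hg⟩ := hs (nk hσ 3)
  have one : ∀ a b, φ a ∈ Xs σ m true → φ b = qg hσ true 0 1 → a * b = b * a := fun a b ha hb => by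
    have h := centre_three hσ hm hs hk' (a := g * a * g⁻¹) (b := g * b * g⁻¹)
      (by rw [map_mul, map_mul, map_inv, hg]; exact class_up hσ 3 ha)
      (by rw [map_mul, map_mul, map_inv, hg, hb])
    calc a * b = g⁻¹ * (g * a * g⁻¹ * (g * b * g⁻¹)) * g := by group
      _ = b * a := by rw [h]; group
  obtain ⟨v, hv⟩ := hb
  rcases eq_or_ne v 0 with rfl | hv0
  · exact mem_center_iff.1 (hk' (show φ b = 1 by rw [hv, qg_zero])) a
  obtain ⟨t, ht⟩ := norm_surj hσ (Units.mk0 v hv0)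
  have ht' : (t : K) ^ (2 ^ m + 1) = v := by simpa using congrArg Units.val ht
  obtain ⟨T, hT⟩ := hs (hB hσ t)
  have h := one (T⁻¹ * a * T) (T⁻¹ * b * T) (by
      have hN := norms_Gs hσ (cl 7) _ (inv_mem (hB_mem_H hσ t)) (φ a) (by rw [Gs_seven hσ]; exact ha)
      rw [Gs_seven hσ, inv_inv] at hN
      rw [map_mul, map_mul, map_inv, hT]; exact hN) (by
      rw [map_mul, map_mul, map_inv, hT, hv,
        show qg hσ true 0 v = hB hσ t * qg hσ true 0 1 * (hB hσ t)⁻¹ by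
          rw [hB_qg, cond_true, mul_zero, mul_one, ht']]
      group)
  calc a * b = T * (T⁻¹ * a * T * (T⁻¹ * b * T)) * T⁻¹ := by group
    _ = b * a := by rw [h]; group

theorem good_quad : Good φ (Hw K m) (Xs σ m true) := by
  obtain ⟨u, hu⟩ := exists_unit hσ hm
  have hN : Norms (Hw K m) (Xs σ m true) := by rw [← Gs_seven hσ]; exact norms_Gs hσ _
  have hT : hB hσ u ∈ Hw K m := hB_mem_H hσ u
  have hfZ : Fpf (hB hσ u) (Zb hσ) := fun x hx => quad_fpf hσ hu x (Zb_le hσ hx)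
  have hGZ : Good φ (Hw K m) (Zb hσ) := by
    refine good_two hs hk' hT (fun s hs' => torus_comm hs' hT) (norms_Zb hσ)
      (fun t _ x hx => by simp [(mem_bot).1 hx]) bot_le (good_bot hk')
      (fun a b _ hb => mem_center_iff.1 (hk' (mem_bot.1 hb)) a) ?_ hfZ ?_
    · intro a b ha hb
      rw [commutatorElement_eq_one_iff_mul_comm.2 (centre_base hσ hm hs hk' (Zb_le hσ ha) hb)]
      exact one_mem _
    · intro x hx he
      refine mem_bot.2 (hfZ x hx ?_)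
      rw [mem_bot, commutatorElement_def, mul_inv_eq_one] at he
      exact he
  have hZs : ∀ z ∈ Zb hσ, ∃ w ∈ lift φ (Hw K m) (Zb hσ), φ w = z := fun z hz =>
    exists_lift hs hT (norms_Zb hσ) hfZ hz
  refine good_two hs hk' hT (fun s hs' => torus_comm hs' hT) hN (norms_Zb hσ) (Zb_le hσ) hGZ
    (fun a b ha hb => centre_base hσ hm hs hk' ha hb) ?_ (quad_fpf hσ hu) ?_
  · intro a b ha hb
    refine omega_trivial hσ hm hs hk' hGZ (norms_Zb hσ) hZs (Zb_le hσ)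
      (fun a b ha hb => centre_base hσ hm hs hk' ha hb) (fun x => qg hσ true x 0)
      (fun x => qgv_pos_mem hσ x 0)
      (fun x y => ⟨qg hσ true 0 (x ^ 2 ^ m * y), ⟨_, rfl⟩, by simp [qg_mul]⟩)
      (fun g hg => by
        obtain ⟨x, v, rfl⟩ := exists_qg hσ (Subgroup.mem_subgroupOf.1 hg)
        exact ⟨x, qg hσ true 0 v, ⟨v, rfl⟩, by simp [qg_mul]⟩)
      (fun x y => ⟨x ^ 2 ^ m * y + y ^ 2 ^ m * x, ?_⟩)
      (fun k hk => ⟨hB hσ (Units.mk0 k hk), hB_mem_H hσ _, fun x => by simp [hB_qg]⟩) ha hb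
    rw [commutatorElement_def, mul_inv_eq_iff_eq_mul, mul_inv_eq_iff_eq_mul, qg_mul, qg_mul, qg_mul]
    congr 1
    · simp [add_comm]
    · simp only [zero_add, zero_pow (pow_ne_zero m (two_ne_zero (α := ℕ))), zero_mul, add_zero]
      linear_combination -(y ^ 2 ^ m * x) * hσ.char2
  · intro z hz he
    obtain ⟨x, v, rfl⟩ := exists_qg hσ (Subgroup.mem_subgroupOf.1 hz)
    obtain ⟨w, hw⟩ := he
    rw [commutatorElement_def, hB_qg, cond_true, mul_inv_eq_iff_eq_mul, qg_mul] at hw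
    have e := (qg_inj hσ hw).1
    have hx : x = 0 := (mul_eq_zero.1 (show ((u : K) - 1) * x = 0 by linear_combination e)).resolve_left
      fun e' => hu (Units.ext (sub_eq_zero.1 e'))
    exact ⟨v, by rw [hx]⟩

theorem good_class (k : Fin 8) : Good φ (Hw K m) (Gs σ m (cl k)) := by
  refine good_class_of hσ hm hs hk' ?_
  cases sideAt false k
  exacts [good_pair hσ hm hs hk', good_quad hσ hm hs hk']

/-- the lifts of the classes from `i` on -/
noncomputable def tailSpan (φ : Γ →* ↥(G1 K m)) (σ : MulAut ↥(chevF4.group K)) (i : ℕ) : Subgroup Γ :=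
  ⨆ k : Fin 8, ⨆ _ : i ≤ k.val, lift φ (Hw K m) (Gs σ m (cl k))

omit hσ hm hs hk' in
theorem cl_sub_tl : ∀ k : Fin 8, ∀ i : Fin 9, (i : ℕ) ≤ k → ∀ r ∈ cl k, r ∈ tl i := by
  unfold tl; decide +kernel

theorem tail_lift : ∀ d : ℕ, ∀ i : Fin 9, i.val + d = 8 →
    Good φ (Hw K m) (Gs σ m (tl i)) ∧
      ∀ z ∈ Gs σ m (tl i), ∃ w ∈ tailSpan φ σ i.val, φ w = z := by
  intro d
  induction d with
  | zero =>
    intro i hi
    have hbot : Gs σ m (tl i) = ⊥ := by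
      refine eq_bot_iff.2 fun x hx => ?_
      have h := (Subgroup.mem_inf.1 (Subgroup.mem_subgroupOf.1 hx)).1
      refine Subtype.ext ?_
      have he : tl i = [] := by rw [show (i : ℕ) = 8 by omega]; rfl
      have hle : uGen chevF4 K (fun r => r ∈ tl i) ≤ ⊥ := uGen_le_iff.2 fun r _ hr => by
        rw [he] at hr; exact absurd hr (List.not_mem_nil)
      exact mem_bot.1 (hle h)
    rw [hbot]
    exact ⟨good_bot hk', fun z hz => ⟨1, one_mem _, by simp [(mem_bot).1 hz]⟩⟩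
  | succ d ih =>
    intro i hi
    obtain ⟨u, hu⟩ := exists_unit hσ hm
    have hi8 : i.val < 8 := by omega
    let k : Fin 8 := ⟨i.val, hi8⟩
    let i' : Fin 9 := ⟨i.val + 1, by omega⟩
    obtain ⟨hG, hS⟩ := ih i' (by show i.val + 1 + d = 8; omega)
    have hsplit : ∀ y ∈ Gs σ m (tl i), ∃ x ∈ Gs σ m (cl k), ∃ z ∈ Gs σ m (tl i'), y = x * z := by
      intro y hy
      rw [Gs_tail hσ] at hy
      obtain ⟨a, ha, b, hb, e⟩ := fixed_components hσ (P := TRoot false i) (Q := SRoot false k)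
        (R := TRoot false i') (closedPos_keep hc _) (closedPos_sroot _ _) (closedPos_keep hc _)
        (fun r _ h1 h2 => absurd h1.2.2 (Nat.not_lt.2 h2.2))
        (fun r hr h => (troot_split hi8 hr).1 h)
        (fun r hr h => sroot_rho hi8 hr h) (fun r hr h => troot_rho i'.2 hr h)
        (Subgroup.mem_subgroupOf.1 hy)
      have haG : a ∈ G1 K m := (class_spec hσ (s := false) hi8).1 ha
      have hbG : b ∈ G1 K m := V_pos_le hσ (V_mono (fun r _ h => h.1) hb)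
      refine ⟨⟨a, haG⟩, ?_, ⟨b, hbG⟩, ?_, Subtype.ext e⟩
      · rw [Gs_class hσ]; exact ha
      · rw [Gs_tail hσ]; exact hb
    have hle : ∀ {j : Fin 8}, i'.val ≤ j.val → Gs σ m (cl j) ≤ Gs σ m (tl i') := fun {j} hj x hx =>
      (mem_Gs hσ).2 (uGen_mono (fun r _ hr => cl_sub_tl j i' hj r hr) ((mem_Gs hσ).1 hx))
    have hTS : tailSpan φ σ i'.val ≤ lift φ (Hw K m) (Gs σ m (tl i')) :=
      iSup_le fun j => iSup_le fun hj => lift_mono (hle hj)
    have hn : ∀ r ∈ lift φ (Hw K m) (Gs σ m (cl k)), ∀ w ∈ lift φ (Hw K m) (Gs σ m (tl i')),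
        r * w * r⁻¹ ∈ lift φ (Hw K m) (Gs σ m (tl i')) := by
      intro r hr w hw
      obtain ⟨w', hw', he⟩ := hS _ (sigma_mem (norms_Gs hσ _) hw)
      rw [hG.eq hw (hTS hw') he.symm]
      suffices hsub : tailSpan φ σ i'.val ≤
          (lift φ (Hw K m) (Gs σ m (tl i'))).comap (MulAut.conj r).toMonoidHom from hsub hw'
      refine iSup_le fun j => iSup_le fun hj w hw => ?_
      have hkj : k ≠ j := fun e => by
        have h1 : i'.val ≤ k.val := e ▸ hj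
        have h2 : i.val + 1 ≤ i.val := h1
        omega
      exact normalise_lift hs hk' (tt_mem hσ k u) (good_class hσ hm hs hk' k) hG (norms_Gs hσ _)
        (norms_Gs hσ _) (hle hj) (fun x hx => tt_comm hσ k u hx) (tt_fpf hσ hkj hu)
        (fun x hx y hy => (mem_Gs hσ).2 (tail_normal hσ k ((mem_Gs hσ).1 hx)
          ((mem_Gs hσ).1 (hle hj hy)))) hr hw
    have hZs : ∀ z ∈ Gs σ m (tl i'), ∃ w ∈ lift φ (Hw K m) (Gs σ m (tl i')), φ w = z := fun z hz => by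
      obtain ⟨w, hw, e⟩ := hS z hz
      exact ⟨w, hTS hw, e⟩
    refine ⟨good_prod hs hk' (good_class hσ hm hs hk' k) hG (norms_Gs hσ _) (norms_Gs hσ _)
      (fun x hx => exists_lift_class hσ hm hs hk' k hx) hZs hsplit ?_ hn, fun z hz => ?_⟩
    · intro g h1 h2
      rw [Gs_class hσ] at h1
      rw [Gs_tail hσ] at h2
      exact Subtype.ext (uGen_inf_disjoint (closedPos_sroot false k) (closedPos_keep hc _)
        (fun r _ a b => absurd a.2.2 (Nat.not_lt.2 b.2))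
        (Subgroup.mem_inf.1 (Subgroup.mem_subgroupOf.1 h1)).1
        (Subgroup.mem_inf.1 (Subgroup.mem_subgroupOf.1 h2)).1)
    · obtain ⟨x, hx, y, hy, rfl⟩ := hsplit z hz
      obtain ⟨a, ha, rfl⟩ := exists_lift_class hσ hm hs hk' k hx
      obtain ⟨b, hb, rfl⟩ := hS y hy
      refine ⟨a * b, mul_mem ?_ ?_, map_mul φ a b⟩
      · exact Subgroup.mem_iSup_of_mem k (Subgroup.mem_iSup_of_mem le_rfl ha)
      · have hmono : tailSpan φ σ i'.val ≤ tailSpan φ σ i.val :=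
          iSup_le fun j => iSup_le fun hj => le_iSup_of_le j (le_iSup_of_le (by
            have : i.val + 1 ≤ j.val := hj
            omega) le_rfl)
        exact hmono hb

omit hσ hm hs hk' in
theorem tl_zero : ∀ r : Fin 48, (r : ℕ) ∈ tl 0 ↔ 24 ≤ (r : ℕ) := by unfold tl; decide +kernel

/-- the unipotent group lifts -/
theorem good_unipotent : Good φ (Hw K m) (Uw K m) ∧
    ∀ z ∈ Uw K m, ∃ w ∈ tailSpan φ σ 0, φ w = z := by
  have h := tail_lift hσ hm hs hk' 8 0 rfl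
  have e : Gs σ m (tl 0) = Uw K m := by
    ext x
    rw [mem_U hσ, mem_Gs hσ]
    exact ⟨fun h => Subgroup.mem_inf.2 ⟨uGen_mono (fun r hr h => (tl_zero ⟨r, hr⟩).1 h) h, G1_le_fix hσ x.2⟩,
      fun h => uGen_mono (fun r hr h => (tl_zero ⟨r, hr⟩).2 h) (Subgroup.mem_inf.1 h).1⟩
  rwa [show ((0 : Fin 9) : ℕ) = 0 from rfl, e] at h

end

end CfsgLib.ReeF4Schur
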